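import Cfsg.Agent.StCh.Reduced
import Mathlib.LinearAlgebra.Pi

/-!
# The Hecke algebra of the Weyl group of a Tits system, over a ring with a parameter

The algebra acts on functions on the Weyl group; it is the commutant of the right operators, so a
member is determined by its value at the indicator of the identity.
-/

set_option autoImplicit false
set_option linter.style.haveILetI false
set_option linter.unusedSectionVars false

namespace CfsgLib.Hecke

open Cfsg CfsgLib.BN CfsgLib.StCh

attribute [local instance] torus_normal

open scoped Classical

variable {G : Type*} [Group G] {P : Cfsg.BNPair G}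

section Cases

theorem len_refl_mul_lt_iff {x : Weyl P} {s : P.S} :
    len P (BN.refl P s * x) < len P x ↔ ¬ len P x < len P (BN.refl P s * x) := by
  rcases len_refl_mul_cases P s x with h | h <;> omega

/-- If left and right reflections both lengthen but do not add up, they agree. -/
theorem eq_of_asc {x : Weyl P} {s k : P.S} (h1 : len P x < len P (BN.refl P s * x))
    (h2 : len P x < len P (x * BN.refl P k))
    (h3 : ¬ len P (BN.refl P s * x) < len P (BN.refl P s * x * BN.refl P k)) :
    BN.refl P s * x = x * BN.refl P k := by
  have hr : RRed P ({k} : Set P.S) x := fun a ha => by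
    rw [Set.mem_singleton_iff] at ha; rwa [ha]
  rcases deodhar hr s with h | ⟨a, ha, e⟩
  · exact absurd (h k rfl) h3
  · rw [Set.mem_singleton_iff] at ha
    rwa [ha] at e

/-- If left and right reflections both shorten but do not add up, they agree. -/
theorem eq_of_desc {x : Weyl P} {s k : P.S} (h1 : len P (BN.refl P s * x) < len P x)
    (h2 : len P (x * BN.refl P k) < len P x)
    (h3 : len P (BN.refl P s * x) < len P (BN.refl P s * x * BN.refl P k)) :
    BN.refl P s * x = x * BN.refl P k := by
  have e : BN.refl P s * (BN.refl P s * x) = BN.refl P s * x * BN.refl P k := by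
    refine eq_of_asc ?_ h3 ?_
    · rwa [← mul_assoc, refl_sq, one_mul]
    · rw [← mul_assoc, refl_sq, one_mul]; omega
  rw [← mul_assoc, refl_sq, one_mul] at e
  conv_rhs => rw [e, mul_refl_refl]

end Cases

variable {A : Type*} [CommRing A]

variable (P) in
/-- Left multiplication by the generator of a simple reflection. -/
noncomputable def lop (t : A) (s : P.S) : Module.End A (Weyl P → A) where
  toFun f x := if len P (BN.refl P s * x) < len P x then f (BN.refl P s * x) + (t - 1) * f x
    else t * f (BN.refl P s * x)
  map_add' f g := funext fun x => by
    simp only [Pi.add_apply]; split_ifs <;> ring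
  map_smul' c f := funext fun x => by
    simp only [Pi.smul_apply, smul_eq_mul, RingHom.id_apply]; split_ifs <;> ring

variable (P) in
/-- Right multiplication by the generator of a simple reflection. -/
noncomputable def rop (t : A) (s : P.S) : Module.End A (Weyl P → A) where
  toFun f x := if len P (x * BN.refl P s) < len P x then f (x * BN.refl P s) + (t - 1) * f x
    else t * f (x * BN.refl P s)
  map_add' f g := funext fun x => by
    simp only [Pi.add_apply]; split_ifs <;> ring
  map_smul' c f := funext fun x => by
    simp only [Pi.smul_apply, smul_eq_mul, RingHom.id_apply]; split_ifs <;> ring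

variable {t : A}

theorem lop_apply (s : P.S) (f : Weyl P → A) (x : Weyl P) :
    lop P t s f x = if len P (BN.refl P s * x) < len P x then
      f (BN.refl P s * x) + (t - 1) * f x else t * f (BN.refl P s * x) := rfl

theorem rop_apply (s : P.S) (f : Weyl P → A) (x : Weyl P) :
    rop P t s f x = if len P (x * BN.refl P s) < len P x then
      f (x * BN.refl P s) + (t - 1) * f x else t * f (x * BN.refl P s) := rfl

/-- **Left and right operators commute.** -/
theorem lop_rop_comm (s k : P.S) (f : Weyl P → A) :
    lop P t s (rop P t k f) = rop P t k (lop P t s f) := by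
  funext x
  simp only [lop_apply, rop_apply, ← mul_assoc (BN.refl P s) x (BN.refl P k)]
  rcases len_refl_mul_cases P s x with hs | hs <;>
  rcases len_mul_refl_cases x k with hk | hk <;>
  rcases len_mul_refl_cases (BN.refl P s * x) k with hsk | hsk
  all_goals
    have hks := len_refl_mul_cases P s (x * BN.refl P k)
    rw [← mul_assoc] at hks
  all_goals
    first
    | (split_ifs <;> first | ring1 | (exfalso; omega))
    | (have e : BN.refl P s * x = x * BN.refl P k := by
          first
          | exact eq_of_asc (by omega) (by omega) (by omega)
          | exact eq_of_desc (by omega) (by omega) (by omega)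
       have e2 : BN.refl P s * x * BN.refl P k = x := by rw [e, mul_refl_refl]
       simp only [e2] at hks hsk ⊢
       simp only [e] at hs hks hsk ⊢
       all_goals (split_ifs <;> first | ring1 | (exfalso; omega)))

/-- The indicator of an element. -/
noncomputable abbrev single (A : Type*) [CommRing A] (w : Weyl P) : Weyl P → A := Pi.single w 1

theorem single_self (w : Weyl P) : single A w w = 1 := by simp [single]

theorem single_ne {w x : Weyl P} (h : x ≠ w) : single A w x = 0 := by simp [single, h]

theorem lop_single_asc {s : P.S} {w : Weyl P} (h : len P w < len P (BN.refl P s * w)) :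
    lop P t s (single A w) = single A (BN.refl P s * w) := by
  funext x
  rw [lop_apply]
  have hinv : BN.refl P s * (BN.refl P s * w) = w := by rw [← mul_assoc, refl_sq, one_mul]
  by_cases hx : x = BN.refl P s * w
  · subst hx
    have hne : BN.refl P s * w ≠ w := fun e => by rw [e] at h; exact lt_irrefl _ h
    rw [hinv, if_pos h, single_self, single_self, single_ne hne]
    ring
  · have hx' : BN.refl P s * x ≠ w := fun e => hx (by rw [← e, ← mul_assoc, refl_sq, one_mul])
    rw [single_ne hx, single_ne hx']
    by_cases hxw : x = w
    · subst hxw
      rw [if_neg (by omega)]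
      ring
    · rw [single_ne hxw]
      split_ifs <;> ring

theorem rop_single_asc {s : P.S} {w : Weyl P} (h : len P w < len P (w * BN.refl P s)) :
    rop P t s (single A w) = single A (w * BN.refl P s) := by
  funext x
  rw [rop_apply]
  by_cases hx : x = w * BN.refl P s
  · subst hx
    have hne : w * BN.refl P s ≠ w := fun e => by rw [e] at h; exact lt_irrefl _ h
    rw [mul_refl_refl, if_pos h, single_self, single_self, single_ne hne]
    ring
  · have hx' : x * BN.refl P s ≠ w := fun e => hx (by rw [← e, mul_refl_refl])
    rw [single_ne hx, single_ne hx']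
    by_cases hxw : x = w
    · subst hxw
      rw [if_neg (by omega)]
      ring
    · rw [single_ne hxw]
      split_ifs <;> ring

variable (P) in
/-- The operator of a word. -/
noncomputable def word (t : A) (L : List P.S) : Module.End A (Weyl P → A) :=
  (L.map (lop P t)).prod

theorem word_cons (s : P.S) (L : List P.S) : word P t (s :: L) = lop P t s * word P t L := rfl

theorem word_append (L M : List P.S) : word P t (L ++ M) = word P t L * word P t M := by
  simp [word, List.map_append, List.prod_append]

theorem word_single (L : List P.S) (v : Weyl P)
    (h : len P (wprod P L * v) = L.length + len P v) :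
    word P t L (single A v) = single A (wprod P L * v) := by
  induction L with
  | nil => simp [word, wprod_nil]
  | cons s L ih =>
    rw [wprod_cons, mul_assoc, List.length_cons] at h
    have h1 := len_refl_mul_le P s (wprod P L * v)
    have h2 : len P (wprod P L * v) ≤ L.length + len P v := by
      obtain ⟨M, rfl, hM⟩ := exists_reduced P v
      rw [← wprod_append, ← hM, ← List.length_append]
      exact len_le P _
    rw [word_cons, Module.End.mul_apply, ih (by omega), wprod_cons, mul_assoc,
      lop_single_asc (by omega)]

variable (P) in
/-- Commuting with all right operators. -/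
def InHecke (t : A) (Φ : Module.End A (Weyl P → A)) : Prop :=
  ∀ k f, Φ (rop P t k f) = rop P t k (Φ f)

theorem inHecke_word (L : List P.S) : InHecke P t (word P t L) := by
  induction L with
  | nil => intro k f; rfl
  | cons s L ih =>
    intro k f
    rw [word_cons, Module.End.mul_apply, ih, lop_rop_comm]
    rfl

theorem InHecke.mul {Φ Ψ : Module.End A (Weyl P → A)} (h : InHecke P t Φ) (h' : InHecke P t Ψ) :
    InHecke P t (Φ * Ψ) := fun k f => by rw [Module.End.mul_apply, h', h]; rfl

variable [Fintype (Weyl P)]

theorem sum_single (f : Weyl P → A) : ∑ w, f w • single A w = f := by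
  funext x
  simp [Finset.sum_apply, Pi.single_apply]

/-- An element of the commutant is determined by its value at the identity. -/
theorem InHecke.ext {Φ Ψ : Module.End A (Weyl P → A)} (h : InHecke P t Φ) (h' : InHecke P t Ψ)
    (e : Φ (single A (1 : Weyl P)) = Ψ (single A (1 : Weyl P))) : Φ = Ψ := by
  have key : ∀ n, ∀ w : Weyl P, len P w = n → Φ (single A w) = Ψ (single A w) := by
    intro n
    induction n with
    | zero => intro w hw; rw [eq_one_of_len P hw]; exact e
    | succ n ih =>
      intro w hw
      obtain ⟨L, hL, hl⟩ := exists_reduced P w
      rcases List.eq_nil_or_concat L with rfl | ⟨L', k, rfl⟩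
      · rw [List.length_nil] at hl; omega
      rw [List.concat_eq_append] at hL hl
      rw [wprod_append, wprod_cons, wprod_nil, mul_one] at hL
      rw [List.length_append, List.length_singleton] at hl
      have h1 := len_le P L'
      have h2 := len_mul_refl_cases (wprod P L') k
      rw [hL] at h2
      have hn : len P (wprod P L') = n := by omega
      rw [← hL, ← rop_single_asc (t := t) (by rw [hL]; omega), h, h', ih _ hn]
  refine LinearMap.ext fun f => ?_
  rw [← sum_single f, map_sum, map_sum]
  exact Finset.sum_congr rfl fun w _ => by rw [map_smul, map_smul, key _ w rfl]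

variable (P) in
/-- A reduced word. -/
noncomputable def red (w : Weyl P) : List P.S := (exists_reduced P w).choose

theorem red_spec (w : Weyl P) : wprod P (red P w) = w ∧ (red P w).length = len P w :=
  (exists_reduced P w).choose_spec

variable (P) in
/-- Left multiplication by a function. -/
noncomputable def top (t : A) : (Weyl P → A) →ₗ[A] Module.End A (Weyl P → A) where
  toFun f := ∑ w, f w • word P t (red P w)
  map_add' f g := by simp [add_smul, Finset.sum_add_distrib]
  map_smul' c f := by simp [Finset.smul_sum, mul_smul]

theorem top_apply_one (f : Weyl P → A) : top P t f (single A (1 : Weyl P)) = f := by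
  show (∑ w, f w • word P t (red P w)) (single A (1 : Weyl P)) = f
  conv_rhs => rw [← sum_single f]
  rw [LinearMap.sum_apply]
  refine Finset.sum_congr rfl fun w _ => ?_
  rw [LinearMap.smul_apply, word_single _ _ (by
    rw [mul_one, (red_spec w).1, (red_spec w).2, len_one, add_zero]), mul_one, (red_spec w).1]

theorem inHecke_top (f : Weyl P → A) : InHecke P t (top P t f) := fun k g => by
  show (∑ w, f w • word P t (red P w)) (rop P t k g) = rop P t k ((∑ w, f w • word P t (red P w)) g)
  rw [LinearMap.sum_apply, LinearMap.sum_apply, map_sum]
  exact Finset.sum_congr rfl fun w _ => by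
    rw [LinearMap.smul_apply, LinearMap.smul_apply, map_smul, inHecke_word]

/-- The product. -/
noncomputable def hmul (t : A) (f g : Weyl P → A) : Weyl P → A := top P t f g

theorem hmul_assoc (f g h : Weyl P → A) : hmul t (hmul t f g) h = hmul t f (hmul t g h) := by
  have e : top P t (hmul t f g) = top P t f * top P t g :=
    (inHecke_top _).ext ((inHecke_top f).mul (inHecke_top g)) (by
      rw [Module.End.mul_apply, top_apply_one, top_apply_one]; rfl)
  show top P t (hmul t f g) h = _
  rw [e]
  rfl

theorem hmul_one (f : Weyl P → A) : hmul t f (single A (1 : Weyl P)) = f := top_apply_one f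

theorem top_one : top P t (single A (1 : Weyl P)) = 1 :=
  (inHecke_top _).ext (fun _ _ => rfl) (top_apply_one _)

theorem one_hmul (f : Weyl P → A) : hmul t (single A (1 : Weyl P)) f = f := by
  show top P t (single A (1 : Weyl P)) f = f
  rw [top_one]
  rfl

/-- Any reduced word represents the basis element. -/
theorem top_single_wprod {L : List P.S} (h : len P (wprod P L) = L.length) :
    top P t (single A (wprod P L)) = word P t L :=
  (inHecke_top _).ext (inHecke_word L) (by
    rw [top_apply_one, word_single L 1 (by rw [mul_one, h, len_one, add_zero]), mul_one])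

theorem top_single_refl (s : P.S) : top P t (single A (BN.refl P s)) = lop P t s := by
  have e : wprod P [s] = BN.refl P s := by simp [wprod]
  have hl : len P (wprod P [s]) = [s].length := by
    refine le_antisymm (len_le P _) ?_
    rw [e, List.length_singleton]
    exact Nat.pos_of_ne_zero fun h => refl_ne_one P s (eq_one_of_len P h)
  rw [← e, top_single_wprod hl]
  simp [word]

theorem hmul_single_single {u v : Weyl P} (h : len P (u * v) = len P u + len P v) :
    hmul t (single A u) (single A v) = single A (u * v) := by
  show top P t (single A u) (single A v) = _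
  obtain ⟨L, rfl, hL⟩ := exists_reduced P u
  rw [top_single_wprod hL.symm, word_single L v (by rw [h, hL])]

/-- Commuting with all products. -/
def IsCentral (t : A) (z : Weyl P → A) : Prop := ∀ f, hmul t f z = hmul t z f

theorem isCentral_of_refl {z : Weyl P → A}
    (h : ∀ s, hmul t (single A (BN.refl P s)) z = hmul t z (single A (BN.refl P s))) :
    IsCentral t z := by
  have key : ∀ n, ∀ w : Weyl P, len P w = n →
      hmul t (single A w) z = hmul t z (single A w) := by
    intro n
    induction n with
    | zero => intro w hw; rw [eq_one_of_len P hw, one_hmul, hmul_one]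
    | succ n ih =>
      intro w hw
      obtain ⟨L, hL, hl⟩ := exists_reduced P w
      rcases L with - | ⟨s, L⟩
      · rw [List.length_nil] at hl; omega
      rw [wprod_cons] at hL
      rw [List.length_cons] at hl
      have h1 := len_le P L
      have h2 := len_refl_mul_cases P s (wprod P L)
      rw [hL] at h2
      have hs : len P (BN.refl P s) = 1 := by
        rcases len_refl_mul_cases P s 1 with h3 | h3
        · rw [mul_one, len_one] at h3; exact h3
        · rw [len_one] at h3; omega
      have hn : len P (wprod P L) = n := by omega
      rw [← hL, ← hmul_single_single (t := t) (by rw [hL, hs]; omega), hmul_assoc, ih _ hn,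
        ← hmul_assoc, h s, hmul_assoc]
  intro f
  conv_lhs => rw [← sum_single f]
  conv_rhs => rw [← sum_single f]
  simp only [hmul, map_sum, map_smul, LinearMap.sum_apply, LinearMap.smul_apply]
  exact Finset.sum_congr rfl fun w _ => congrArg (f w • ·) (key _ w rfl)

/-- The trace of the algebra over its centre, scaled. -/
noncomputable def cas (t : A) (N : ℕ) : (Weyl P → A) →ₗ[A] (Weyl P → A) :=
  ∑ w : Weyl P, t ^ (N - len P w) • ((top P t (single A w)).comp
    ((top P t).flip (single A w⁻¹)))

theorem cas_apply (N : ℕ) (h : Weyl P → A) :
    cas t N h = ∑ w : Weyl P, t ^ (N - len P w) •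
      hmul t (single A w) (hmul t h (single A w⁻¹)) := by
  simp only [cas, LinearMap.sum_apply, LinearMap.smul_apply]
  rfl

theorem cas_isCentral {N : ℕ} (hN : ∀ w : Weyl P, len P w ≤ N) (h : Weyl P → A) :
    IsCentral t (cas t N h) := by
  refine isCentral_of_refl fun s => ?_
  set ts := single A (BN.refl P s) with hts
  have hsq : hmul t ts ts = t • single A (1 : Weyl P) + (t - 1) • ts := by
    show top P t (single A (BN.refl P s)) (single A (BN.refl P s)) = _
    rw [top_single_refl]
    funext x
    rw [lop_apply]
    simp only [Pi.add_apply, Pi.smul_apply, smul_eq_mul]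
    have hlen : len P (BN.refl P s) ≠ 0 := fun e => refl_ne_one P s (eq_one_of_len P e)
    by_cases h1 : x = 1
    · subst h1
      rw [mul_one, len_one, if_neg (by omega), hts, single_self, single_self,
        single_ne (refl_ne_one P s).symm]
      ring
    · have hx : BN.refl P s * x ≠ BN.refl P s := fun e => h1 (mul_eq_left.1 e)
      rw [single_ne hx, single_ne h1, hts]
      by_cases h2 : x = BN.refl P s
      · subst h2
        rw [refl_sq, len_one, if_pos (by omega), single_self]
        ring
      · rw [single_ne h2]
        split_ifs <;> ring
  let F : Weyl P → (Weyl P → A) := fun w =>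
    t ^ (N - len P w) • hmul t (single A w) (hmul t h (single A w⁻¹))
  let W₀ : Finset (Weyl P) := Finset.univ.filter fun w => len P w < len P (BN.refl P s * w)
  have hsplit : cas t N h = ∑ w ∈ W₀, (F w + F (BN.refl P s * w)) := by
    rw [cas_apply, Finset.sum_add_distrib, ← Finset.sum_filter_add_sum_filter_not Finset.univ
      (fun w => len P w < len P (BN.refl P s * w))]
    congr 1
    refine Finset.sum_nbij' (BN.refl P s * ·) (BN.refl P s * ·) ?_ ?_ ?_ ?_ ?_
    · intro w hw
      simp only [Finset.mem_coe, Finset.mem_filter, Finset.mem_univ, true_and, W₀] at hw ⊢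
      rw [← mul_assoc, refl_sq, one_mul]
      exact len_refl_mul_lt_iff.2 hw
    · intro w hw
      simp only [Finset.mem_coe, Finset.mem_filter, Finset.mem_univ, true_and, W₀] at hw ⊢
      rw [← mul_assoc, refl_sq, one_mul]
      exact not_lt.2 hw.le
    · intro w _; simp [← mul_assoc, refl_sq]
    · intro w _; simp [← mul_assoc, refl_sq]
    · intro w _; simp [F, ← mul_assoc, refl_sq]
  have hadd : ∀ a b c : Weyl P → A, hmul t a (b + c) = hmul t a b + hmul t a c := fun a b c =>
    map_add (top P t a) b c
  have hadd' : ∀ a b c : Weyl P → A, hmul t (a + b) c = hmul t a c + hmul t b c := fun a b c => by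
    simp [hmul]
  have hsm : ∀ (r : A) (a b : Weyl P → A), hmul t a (r • b) = r • hmul t a b := fun r a b =>
    map_smul (top P t a) r b
  have hsm' : ∀ (r : A) (a b : Weyl P → A), hmul t (r • a) b = r • hmul t a b := fun r a b => by
    simp [hmul]
  have hpair : ∀ w ∈ W₀, hmul t ts (F w + F (BN.refl P s * w)) =
      hmul t (F w + F (BN.refl P s * w)) ts := by
    intro w hw
    have hlt : len P w < len P (BN.refl P s * w) := (Finset.mem_filter.1 hw).2
    have hl : len P (BN.refl P s * w) = len P w + 1 := by
      rcases len_refl_mul_cases P s w with h' | h' <;> omega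
    set a := hmul t (single A w) (hmul t h (single A w⁻¹)) with ha
    have hs1 : len P (BN.refl P s) = 1 := by
      rcases len_refl_mul_cases P s 1 with h3 | h3
      · rw [mul_one, len_one] at h3; exact h3
      · rw [len_one] at h3; omega
    have e1 : single A (BN.refl P s * w) = hmul t ts (single A w) :=
      (hmul_single_single (by rw [hl, hs1, add_comm])).symm
    have e2 : single A (BN.refl P s * w)⁻¹ = hmul t (single A w⁻¹) ts := by
      rw [mul_inv_rev, refl_inv]
      refine (hmul_single_single ?_).symm
      rw [← refl_inv P s, ← mul_inv_rev, len_inv, len_inv, refl_inv, hl, hs1]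
    have hF2 : F (BN.refl P s * w) =
        t ^ (N - (len P w + 1)) • hmul t ts (hmul t a ts) := by
      show t ^ (N - len P (BN.refl P s * w)) • _ = _
      rw [hl, e1, e2, ha]
      simp only [hmul_assoc]
    have hF1 : F w = (t ^ (N - (len P w + 1)) * t) • a := by
      show t ^ (N - len P w) • a = _
      rw [← pow_succ]
      congr 2
      have := hN (BN.refl P s * w)
      omega
    rw [hF1, hF2, mul_smul, ← smul_add, hsm, hsm']
    congr 1
    rw [hadd, hadd', hsm, hsm', ← hmul_assoc ts ts (hmul t a ts), hsq,
      hadd' (t • single A (1 : Weyl P)), hsm', hsm', one_hmul,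
      hmul_assoc ts (hmul t a ts) ts, hmul_assoc a ts ts, hsq, hadd a, hsm, hsm, hmul_one,
      hadd ts, hsm, hsm]
    abel
  calc hmul t ts (cas t N h) = ∑ w ∈ W₀, hmul t ts (F w + F (BN.refl P s * w)) := by
        rw [hsplit]; exact map_sum (top P t ts) _ _
    _ = ∑ w ∈ W₀, hmul t (F w + F (BN.refl P s * w)) ts := Finset.sum_congr rfl hpair
    _ = hmul t (cas t N h) ts := by
        rw [hsplit]; simp [hmul]

theorem cas_hmul (N : ℕ) {z : Weyl P → A} (hz : IsCentral t z) (h : Weyl P → A) :
    cas t N (hmul t h z) = hmul t (cas t N h) z := by
  rw [cas_apply, cas_apply]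
  simp only [hmul, map_sum, map_smul, LinearMap.sum_apply, LinearMap.smul_apply]
  refine Finset.sum_congr rfl fun w _ => congrArg (_ • ·) ?_
  show hmul t (single A w) (hmul t (hmul t h z) (single A w⁻¹)) =
    hmul t (hmul t (single A w) (hmul t h (single A w⁻¹))) z
  rw [hmul_assoc h z, ← hz (single A w⁻¹), ← hmul_assoc h, ← hmul_assoc]

end CfsgLib.Hecke
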