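import Cfsg.Agent.Hecke.Basic
import Mathlib.Analysis.Complex.Basic
import Mathlib.LinearAlgebra.Matrix.Rank
import Mathlib.LinearAlgebra.Matrix.ToLin
import Mathlib.LinearAlgebra.FiniteDimensional.Basic
import Mathlib.LinearAlgebra.Matrix.NonsingularInverse
import Mathlib.Algebra.Polynomial.Roots
import Mathlib.Algebra.Group.Conj
import Mathlib.RingTheory.Polynomial.Basic

/-!
# The centre of the Hecke algebra does not depend on a positive parameter

The scaled trace onto the centre is surjective for a positive parameter, and the rank of a family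
of matrices depending polynomially on the parameter is largest generically; so the dimension of
the centre is the number of classes of the Weyl group.
-/

set_option autoImplicit false
set_option linter.style.haveILetI false
set_option linter.unusedSectionVars false

namespace CfsgLib.Hecke

open Cfsg CfsgLib.BN CfsgLib.StCh
open scoped Classical ComplexConjugate

attribute [local instance] torus_normal

variable {G : Type*} [Group G] {P : Cfsg.BNPair G}

section Natural

variable {A A' : Type*} [CommRing A] [CommRing A'] (φ : A →+* A')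

theorem map_single (w : Weyl P) : φ ∘ single A w = single A' w := by
  funext x
  rcases eq_or_ne x w with rfl | h
  · simp [single]
  · simp [single, h]

theorem map_lop (t : A) (s : P.S) (f : Weyl P → A) :
    φ ∘ lop P t s f = lop P (φ t) s (φ ∘ f) := by
  funext x
  simp only [Function.comp_apply, lop_apply]
  split_ifs <;> simp

theorem map_word (t : A) (L : List P.S) (f : Weyl P → A) :
    φ ∘ word P t L f = word P (φ t) L (φ ∘ f) := by
  induction L with
  | nil => rfl
  | cons s L ih => rw [word_cons, word_cons, Module.End.mul_apply, Module.End.mul_apply, map_lop, ih]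

variable [Fintype (Weyl P)]

theorem top_eq (t : A) (f g : Weyl P → A) (x : Weyl P) :
    top P t f g x = ∑ w, f w * word P t (red P w) g x := by
  show (∑ w, f w • word P t (red P w)) g x = _
  simp [LinearMap.sum_apply, Finset.sum_apply]

theorem map_hmul (t : A) (f g : Weyl P → A) :
    φ ∘ hmul t f g = hmul (φ t) (φ ∘ f) (φ ∘ g) := by
  funext x
  show φ (top P t f g x) = top P (φ t) (φ ∘ f) (φ ∘ g) x
  rw [top_eq, top_eq, map_sum]
  refine Finset.sum_congr rfl fun w _ => ?_
  rw [map_mul, ← map_word]
  rfl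

theorem map_cas (t : A) (N : ℕ) (h : Weyl P → A) :
    φ ∘ cas t N h = cas (φ t) N (φ ∘ h) := by
  funext x
  rw [Function.comp_apply, cas_apply, cas_apply, Finset.sum_apply, Finset.sum_apply, map_sum]
  refine Finset.sum_congr rfl fun w _ => ?_
  simp only [Pi.smul_apply, smul_eq_mul, map_mul, map_pow]
  congr 1
  rw [← map_single φ w, ← map_single φ w⁻¹, ← map_hmul, ← map_hmul]
  rfl

/-- The commutators with the basis. -/
noncomputable def comm (t : A) : (Weyl P → A) →ₗ[A] (Weyl P × Weyl P → A) where
  toFun z p := hmul t (single A p.1) z p.2 - hmul t z (single A p.1) p.2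
  map_add' a b := funext fun p => by
    simp only [hmul, map_add, LinearMap.add_apply, Pi.add_apply]; ring
  map_smul' c a := funext fun p => by
    simp only [hmul, map_smul, LinearMap.smul_apply, Pi.smul_apply, smul_eq_mul, RingHom.id_apply]
    ring

theorem map_comm (t : A) (z : Weyl P → A) : φ ∘ comm t z = comm (φ t) (φ ∘ z) := by
  funext p
  show φ (hmul t (single A p.1) z p.2 - hmul t z (single A p.1) p.2) = _
  rw [map_sub]
  show (φ ∘ hmul t (single A p.1) z) p.2 - (φ ∘ hmul t z (single A p.1)) p.2 = _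
  rw [map_hmul, map_hmul, map_single]
  rfl

theorem mem_ker_comm {t : A} {z : Weyl P → A} : z ∈ LinearMap.ker (comm t) ↔ IsCentral t z := by
  rw [LinearMap.mem_ker]
  constructor
  · intro h f
    conv_lhs => rw [← sum_single f]
    conv_rhs => rw [← sum_single f]
    simp only [hmul, map_sum, map_smul, LinearMap.sum_apply, LinearMap.smul_apply]
    refine Finset.sum_congr rfl fun w _ => congrArg (f w • ·) ?_
    funext x
    exact sub_eq_zero.1 (congrFun h (w, x))
  · intro h
    funext p
    show hmul t (single A p.1) z p.2 - hmul t z (single A p.1) p.2 = 0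
    rw [h, sub_self]

theorem range_cas_le (t : A) {N : ℕ} (hN : ∀ w : Weyl P, len P w ≤ N) :
    LinearMap.range (cas (P := P) t N) ≤ LinearMap.ker (comm t) := by
  rintro z ⟨h, rfl⟩
  exact mem_ker_comm.2 (cas_isCentral hN h)

end Natural

section Positive

variable [Fintype (Weyl P)]

/-- The weighted inner product. -/
noncomputable def ip (t : ℝ) (f g : Weyl P → ℂ) : ℂ :=
  ∑ x, (t : ℂ) ^ len P x * (conj (f x) * g x)

theorem ip_lop (t : ℝ) (s : P.S) (f g : Weyl P → ℂ) :
    ip t (lop P (t : ℂ) s f) g = ip t f (lop P (t : ℂ) s g) := by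
  let r : Equiv.Perm (Weyl P) := Equiv.mulLeft (BN.refl P s)
  have hr : ∀ F : Weyl P → ℂ, ∑ x, F (BN.refl P s * x) = ∑ x, F x := fun F => Equiv.sum_comp r F
  have h1 : ∀ a b : Weyl P → ℂ, ∑ x, (t : ℂ) ^ len P x *
      ((if len P (BN.refl P s * x) < len P x then conj (a (BN.refl P s * x))
        else (t : ℂ) * conj (a (BN.refl P s * x))) * b x) =
      ∑ x, (t : ℂ) ^ len P x * (conj (a x) *
        (if len P (BN.refl P s * x) < len P x then b (BN.refl P s * x)
        else (t : ℂ) * b (BN.refl P s * x))) := by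
    intro a b
    rw [← hr fun x => (t : ℂ) ^ len P x *
      ((if len P (BN.refl P s * x) < len P x then conj (a (BN.refl P s * x))
        else (t : ℂ) * conj (a (BN.refl P s * x))) * b x)]
    refine Finset.sum_congr rfl fun x _ => ?_
    have e : BN.refl P s * (BN.refl P s * x) = x := by rw [← mul_assoc, refl_sq, one_mul]
    rw [e]
    rcases len_refl_mul_cases P s x with h | h
    · rw [h, if_pos (by omega), if_neg (by omega), pow_succ]; ring
    · rw [if_neg (by omega), if_pos (by omega), ← h, pow_succ]; ring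
  have h2 : ∀ a b : Weyl P → ℂ, ip t (lop P (t : ℂ) s a) b = (∑ x, (t : ℂ) ^ len P x *
      ((if len P (BN.refl P s * x) < len P x then conj (a (BN.refl P s * x))
        else (t : ℂ) * conj (a (BN.refl P s * x))) * b x)) +
      ∑ x, (t : ℂ) ^ len P x * ((if len P (BN.refl P s * x) < len P x then ((t : ℂ) - 1) else 0) *
        (conj (a x) * b x)) := by
    intro a b
    rw [ip, ← Finset.sum_add_distrib]
    refine Finset.sum_congr rfl fun x _ => ?_
    rw [lop_apply]
    split_ifs <;> simp [Complex.conj_ofReal] <;> ring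
  rw [h2, h1, ip, ← Finset.sum_add_distrib]
  refine Finset.sum_congr rfl fun x _ => ?_
  rw [lop_apply]
  split_ifs <;> ring

theorem ip_word (t : ℝ) (L : List P.S) (f g : Weyl P → ℂ) :
    ip t (word P (t : ℂ) L f) g = ip t f (word P (t : ℂ) L.reverse g) := by
  induction L generalizing g with
  | nil => rfl
  | cons s L ih =>
    rw [word_cons, Module.End.mul_apply, ip_lop, ih, List.reverse_cons, word_append,
      Module.End.mul_apply]
    congr 2

theorem ip_top_single (t : ℝ) (w : Weyl P) (f g : Weyl P → ℂ) :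
    ip t (top P (t : ℂ) (single ℂ w) f) g = ip t f (top P (t : ℂ) (single ℂ w⁻¹) g) := by
  obtain ⟨L, rfl, hL⟩ := exists_reduced P w
  rw [← wprod_reverse, top_single_wprod hL.symm, top_single_wprod (by
    rw [wprod_reverse, len_inv, List.length_reverse, hL]), ip_word]

variable {t : ℝ}

theorem ip_self (f : Weyl P → ℂ) :
    ip t f f = ((∑ x, t ^ len P x * Complex.normSq (f x) : ℝ) : ℂ) := by
  rw [ip, Complex.ofReal_sum]
  refine Finset.sum_congr rfl fun x _ => ?_
  rw [Complex.ofReal_mul, Complex.ofReal_pow, Complex.normSq_eq_conj_mul_self]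

theorem norm_nonneg' (ht : 0 < t) (f : Weyl P → ℂ) :
    0 ≤ ∑ x, t ^ len P x * Complex.normSq (f x) :=
  Finset.sum_nonneg fun _ _ => mul_nonneg (pow_pos ht _).le (Complex.normSq_nonneg _)

theorem top_cas_one_injective (ht : 0 < t) (N : ℕ) :
    Function.Injective (top P (t : ℂ) (cas (t : ℂ) N (single ℂ (1 : Weyl P)))) := by
  rw [← LinearMap.ker_eq_bot, Submodule.eq_bot_iff]
  intro f hf
  rw [LinearMap.mem_ker] at hf
  by_contra hne
  have e : top P (t : ℂ) (cas (t : ℂ) N (single ℂ (1 : Weyl P))) f =
      ∑ w : Weyl P, (t : ℂ) ^ (N - len P w) •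
        top P (t : ℂ) (single ℂ w) (top P (t : ℂ) (single ℂ w⁻¹) f) := by
    rw [cas_apply, map_sum, LinearMap.sum_apply]
    refine Finset.sum_congr rfl fun w _ => ?_
    rw [map_smul, LinearMap.smul_apply, one_hmul]
    congr 1
    exact hmul_assoc (single ℂ w) (single ℂ w⁻¹) f
  have h0 : ∑ w : Weyl P, (t : ℂ) ^ (N - len P w) *
      ip t (top P (t : ℂ) (single ℂ w⁻¹) f) (top P (t : ℂ) (single ℂ w⁻¹) f) = 0 := by
    have h1 : ip t f (top P (t : ℂ) (cas (t : ℂ) N (single ℂ (1 : Weyl P))) f) = 0 := by
      rw [hf]; simp [ip]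
    rw [e] at h1
    rw [← h1, ip]
    simp only [Finset.sum_apply, Pi.smul_apply, smul_eq_mul, Finset.mul_sum]
    rw [Finset.sum_comm]
    refine Finset.sum_congr rfl fun w _ => ?_
    rw [ip_top_single, inv_inv, ip, Finset.mul_sum]
    refine Finset.sum_congr rfl fun x _ => ?_
    ring
  simp only [ip_self, ← Complex.ofReal_pow, ← Complex.ofReal_mul, ← Complex.ofReal_sum,
    Complex.ofReal_eq_zero] at h0
  have h2 := (Finset.sum_eq_zero_iff_of_nonneg fun w _ =>
    mul_nonneg (pow_pos ht _).le (norm_nonneg' ht _)).1 h0 1 (Finset.mem_univ _)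
  rcases mul_eq_zero.1 h2 with h3 | h3
  · exact absurd h3 (pow_pos ht _).ne'
  rw [inv_one, top_one, Module.End.one_apply] at h3
  refine hne (funext fun x => ?_)
  have h4 := (Finset.sum_eq_zero_iff_of_nonneg fun x _ =>
    mul_nonneg (pow_pos ht _).le (Complex.normSq_nonneg (f x))).1 h3 x (Finset.mem_univ _)
  rcases mul_eq_zero.1 h4 with h5 | h5
  · exact absurd h5 (pow_pos ht _).ne'
  · exact Complex.normSq_eq_zero.1 h5

/-- **The trace is onto the centre.** -/
theorem range_cas_eq (ht : 0 < t) {N : ℕ} (hN : ∀ w : Weyl P, len P w ≤ N) :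
    LinearMap.range (cas (P := P) (t : ℂ) N) = LinearMap.ker (comm (t : ℂ)) := by
  refine le_antisymm (range_cas_le _ hN) fun z hz => ?_
  rw [mem_ker_comm] at hz
  set c := cas (t : ℂ) N (single ℂ (1 : Weyl P)) with hc
  have hinj : Function.Injective (top P (t : ℂ) c) := top_cas_one_injective ht N
  have hcc : IsCentral (t : ℂ) c := cas_isCentral hN _
  obtain ⟨d, hd⟩ := (LinearMap.injective_iff_surjective.1 hinj) (single ℂ (1 : Weyl P))
  change hmul (t : ℂ) c d = _ at hd
  have hdc : IsCentral (t : ℂ) d := fun f => hinj (show hmul (t : ℂ) c _ = hmul (t : ℂ) c _ by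
    rw [← hmul_assoc, ← hcc f, hmul_assoc, hd, ← hmul_assoc c d, hd, hmul_one, one_hmul])
  have hdz : IsCentral (t : ℂ) (hmul (t : ℂ) d z) := fun f => by
    rw [← hmul_assoc, hdc f, hmul_assoc, hz f, ← hmul_assoc]
  refine ⟨hmul (t : ℂ) d z, ?_⟩
  conv_lhs => rw [← one_hmul (t := (t : ℂ)) (hmul (t : ℂ) d z)]
  rw [cas_hmul N hdz, ← hc, ← hmul_assoc, hd, one_hmul]

end Positive

section Rank

open Polynomial Matrix

variable {m n : Type*} [Fintype m] [Fintype n]

/-- The rank of a polynomial family is at most the generic one. -/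
theorem exists_rank_poly (M : Matrix n m ℂ[X]) (a : ℂ) :
    ∃ p : ℂ[X], p ≠ 0 ∧ ∀ x, p.eval x ≠ 0 →
      (M.map (Polynomial.eval a)).rank ≤ (M.map (Polynomial.eval x)).rank := by
  set f := (M.map (Polynomial.eval a)).mulVecLin
  set r := Module.finrank ℂ (LinearMap.range f)
  let b : Module.Basis (Fin r) ℂ (LinearMap.range f) := Module.finBasis ℂ (LinearMap.range f)
  have hpre : ∀ i, ∃ u, f u = (b i : n → ℂ) := fun i => LinearMap.mem_range.1 (b i).2
  choose u hu using hpre
  let Pl : (Fin r → ℂ) →ₗ[ℂ] (m → ℂ) := Fintype.linearCombination ℂ u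
  have hker : LinearMap.ker (f.comp Pl) = ⊥ := by
    rw [Submodule.eq_bot_iff]
    intro c hc
    rw [LinearMap.mem_ker, LinearMap.comp_apply, Fintype.linearCombination_apply, map_sum] at hc
    simp only [map_smul, hu] at hc
    have hind : LinearIndependent ℂ (fun i => (b i : n → ℂ)) :=
      b.linearIndependent.map' (LinearMap.range f).subtype (Submodule.ker_subtype _)
    exact funext (Fintype.linearIndependent_iff.1 hind c hc)
  obtain ⟨g, hg⟩ := LinearMap.exists_leftInverse_of_injective _ hker
  let Q : Matrix (Fin r) n ℂ := LinearMap.toMatrix' g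
  let Pm : Matrix m (Fin r) ℂ := LinearMap.toMatrix' Pl
  have hQ : Q * M.map (Polynomial.eval a) * Pm = 1 := by
    rw [Matrix.mul_assoc]
    have h1 : M.map (Polynomial.eval a) * Pm = LinearMap.toMatrix' (f.comp Pl) := by
      rw [LinearMap.toMatrix'_comp]
      congr 1
      exact (LinearMap.toMatrix'_toLin' _).symm
    rw [h1, ← LinearMap.toMatrix'_comp, hg, LinearMap.toMatrix'_id]
  let p : ℂ[X] := (Q.map C * M * Pm.map C).det
  have he : ∀ x, p.eval x = (Q * M.map (Polynomial.eval x) * Pm).det := by
    intro x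
    rw [← Polynomial.coe_evalRingHom, RingHom.map_det]
    congr 1
    simp only [RingHom.mapMatrix_apply, Matrix.map_mul, Matrix.map_map]
    congr 1
    · congr 1
      ext i j; simp
    · ext i j; simp
  refine ⟨p, fun h => ?_, fun x hx => ?_⟩
  · have := he a
    rw [h, hQ, Matrix.det_one, Polynomial.eval_zero] at this
    exact zero_ne_one this
  · rw [he] at hx
    have h1 : (Q * M.map (Polynomial.eval x) * Pm).rank = r := by
      rw [Matrix.rank_of_isUnit _ ((Matrix.isUnit_iff_isUnit_det _).2 (Ne.isUnit hx)),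
        Fintype.card_fin]
    calc (M.map (Polynomial.eval a)).rank = r := rfl
      _ = (Q * M.map (Polynomial.eval x) * Pm).rank := h1.symm
      _ ≤ (Q * M.map (Polynomial.eval x)).rank := Matrix.rank_mul_le_left _ _
      _ ≤ _ := Matrix.rank_mul_le_right _ _

variable [DecidableEq m]

theorem rank_toMatrix' (f : (m → ℂ) →ₗ[ℂ] (n → ℂ)) :
    (LinearMap.toMatrix' f).rank = Module.finrank ℂ (LinearMap.range f) := by
  rw [Matrix.rank, ← Matrix.toLin'_apply', Matrix.toLin'_toMatrix']

end Rank

section Dimension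

variable [Fintype (Weyl P)]

open Polynomial

variable (P) in
/-- The matrix of the trace, as a polynomial in the parameter. -/
noncomputable def casM (N : ℕ) : Matrix (Weyl P) (Weyl P) ℂ[X] :=
  fun i j => cas X N (single ℂ[X] j) i

variable (P) in
/-- The matrix of the commutators, as a polynomial in the parameter. -/
noncomputable def commM : Matrix (Weyl P × Weyl P) (Weyl P) ℂ[X] :=
  fun i j => comm X (single ℂ[X] j) i

theorem casM_eval (N : ℕ) (x : ℂ) :
    (casM P N).map (Polynomial.eval x) = LinearMap.toMatrix' (cas (P := P) x N) := by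
  ext i j
  rw [LinearMap.toMatrix'_apply, Matrix.map_apply, casM]
  show (Polynomial.evalRingHom x ∘ cas X N (single ℂ[X] j)) i = _
  rw [map_cas, map_single, Polynomial.coe_evalRingHom, Polynomial.eval_X]

theorem commM_eval (x : ℂ) :
    (commM P).map (Polynomial.eval x) = LinearMap.toMatrix' (comm (P := P) x) := by
  ext i j
  rw [LinearMap.toMatrix'_apply, Matrix.map_apply, commM]
  show (Polynomial.evalRingHom x ∘ comm X (single ℂ[X] j)) i = _
  rw [map_comm, map_single, Polynomial.coe_evalRingHom, Polynomial.eval_X]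

/-- The centre has at most the dimension at any other positive parameter. -/
theorem finrank_center_le {a b : ℝ} (ha : 0 < a) {N : ℕ} (hN : ∀ w : Weyl P, len P w ≤ N) :
    Module.finrank ℂ (LinearMap.ker (comm (P := P) (a : ℂ))) ≤
      Module.finrank ℂ (LinearMap.ker (comm (P := P) (b : ℂ))) := by
  obtain ⟨p, hp, hC⟩ := exists_rank_poly (casM P N) (a : ℂ)
  obtain ⟨q, hq, hK⟩ := exists_rank_poly (commM P) (b : ℂ)
  obtain ⟨x, hx⟩ := Polynomial.exists_eval_ne_zero_of_natDegree_lt_card (p * q)
    (mul_ne_zero hp hq) (Cardinal.natCast_lt_aleph0.trans_le (Cardinal.aleph0_le_mk ℂ))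
  rw [Polynomial.eval_mul, mul_ne_zero_iff] at hx
  have h1 := hC x hx.1
  have h2 := hK x hx.2
  rw [casM_eval, casM_eval, rank_toMatrix', rank_toMatrix', range_cas_eq ha hN] at h1
  rw [commM_eval, commM_eval, rank_toMatrix', rank_toMatrix'] at h2
  have h3 := Submodule.finrank_mono (range_cas_le (P := P) x hN)
  have h4 := LinearMap.finrank_range_add_finrank_ker (comm (P := P) (b : ℂ))
  have h5 := LinearMap.finrank_range_add_finrank_ker (comm (P := P) x)
  omega

theorem word_one_param {A : Type*} [CommRing A] (L : List P.S) (f : Weyl P → A) (x : Weyl P) :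
    word P (1 : A) L f x = f ((wprod P L)⁻¹ * x) := by
  induction L generalizing x with
  | nil => simp [word, wprod_nil]
  | cons s L ih =>
    rw [word_cons, Module.End.mul_apply, lop_apply, wprod_cons, mul_inv_rev, refl_inv, mul_assoc]
    simp only [sub_self, zero_mul, add_zero, one_mul, ite_self]
    exact ih _

theorem top_one_param (f g : Weyl P → ℂ) (x : Weyl P) :
    top P (1 : ℂ) f g x = ∑ w, f w * g (w⁻¹ * x) := by
  rw [top_eq]
  refine Finset.sum_congr rfl fun w _ => ?_
  rw [word_one_param, (red_spec w).1]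

theorem isCentral_one_iff {z : Weyl P → ℂ} :
    IsCentral (1 : ℂ) z ↔ ∀ u x : Weyl P, z (u * x * u⁻¹) = z x := by
  have hl : ∀ u x : Weyl P, hmul (1 : ℂ) (single ℂ u) z x = z (u⁻¹ * x) := fun u x => by
    show top P (1 : ℂ) (single ℂ u) z x = _
    rw [top_one_param, Finset.sum_eq_single u (fun b _ hb => by simp [single, hb])
      (fun h => absurd (Finset.mem_univ u) h)]
    simp [single]
  have hr : ∀ u x : Weyl P, hmul (1 : ℂ) z (single ℂ u) x = z (x * u⁻¹) := fun u x => by
    show top P (1 : ℂ) z (single ℂ u) x = _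
    rw [top_one_param, Finset.sum_eq_single (x * u⁻¹) (fun b _ hb => ?_)
      (fun h => absurd (Finset.mem_univ _) h)]
    · simp [single]
    · rw [single_ne (A := ℂ) (w := u) (x := b⁻¹ * x) fun e => hb (by rw [← e]; group), mul_zero]
  rw [← mem_ker_comm, LinearMap.mem_ker]
  constructor
  · intro h u x
    have := congrFun h (u, u * x)
    change hmul (1 : ℂ) (single ℂ u) z (u * x) - hmul (1 : ℂ) z (single ℂ u) (u * x) = 0 at this
    rw [hl, hr, inv_mul_cancel_left, sub_eq_zero] at this
    exact this.symm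
  · intro h
    funext p
    show hmul (1 : ℂ) (single ℂ p.1) z p.2 - hmul (1 : ℂ) z (single ℂ p.1) p.2 = 0
    rw [hl, hr, ← h p.1 (p.1⁻¹ * p.2), mul_inv_cancel_left, sub_self]

theorem finrank_center_one :
    Module.finrank ℂ (LinearMap.ker (comm (P := P) (1 : ℂ))) = Nat.card (ConjClasses (Weyl P)) := by
  let e : (ConjClasses (Weyl P) → ℂ) →ₗ[ℂ] (Weyl P → ℂ) :=
    LinearMap.funLeft ℂ ℂ ConjClasses.mk
  have he : Function.Injective e :=
    LinearMap.funLeft_injective_of_surjective _ _ _ ConjClasses.mk_surjective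
  have hrange : LinearMap.range e = LinearMap.ker (comm (P := P) (1 : ℂ)) := by
    refine le_antisymm ?_ fun z hz => ?_
    · rintro _ ⟨f, rfl⟩
      rw [mem_ker_comm, isCentral_one_iff]
      intro u x
      show f (ConjClasses.mk (u * x * u⁻¹)) = f (ConjClasses.mk x)
      rw [ConjClasses.mk_eq_mk_iff_isConj.2 (isConj_iff.2 ⟨u, rfl⟩).symm]
    · rw [mem_ker_comm, isCentral_one_iff] at hz
      refine ⟨fun c => Quotient.liftOn c z fun a b hab => ?_, funext fun x => rfl⟩
      obtain ⟨u, rfl⟩ := isConj_iff.1 hab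
      exact (hz u a).symm
  haveI : Fintype (ConjClasses (Weyl P)) := Fintype.ofFinite _
  rw [← hrange, LinearMap.finrank_range_of_inj he, Module.finrank_fintype_fun_eq_card,
    Nat.card_eq_fintype_card]

/-- **The dimension of the centre.** -/
theorem finrank_center {t : ℝ} (ht : 0 < t) :
    Module.finrank ℂ (LinearMap.ker (comm (P := P) (t : ℂ))) = Nat.card (ConjClasses (Weyl P)) := by
  have hN : ∀ w : Weyl P, len P w ≤ Finset.univ.sup (len P) :=
    fun w => Finset.le_sup (Finset.mem_univ w)
  rw [← finrank_center_one, ← Complex.ofReal_one]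
  exact le_antisymm (finrank_center_le ht hN) (finrank_center_le one_pos hN)

end Dimension

end CfsgLib.Hecke
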