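import Cfsg.Agent.StCh.ChevRad
import Cfsg.Agent.StDefZero.Chev
import Cfsg.Agent.Chev.CoxeterW

/-!
# The chambers and the Weyl group of a Chevalley group
-/

set_option autoImplicit false

namespace CfsgLib.Chev

open Cfsg.Lie Matrix CfsgLib.BN CfsgLib.StCh
open scoped MatrixGroups

attribute [local instance] torus_normal

namespace Tab

variable {D : ChevalleyDatum}

namespace Good

variable {T : Tab D} (G : T.Good) {F : Type*} [Field F]
include G

/-- The Weyl group of the Tits system is the tabulated Coxeter group. -/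
theorem weyl_equiv (M : CoxeterMatrix (Fin D.rank))
    (hM : ∀ i j : Fin D.rank, orderOf (G.full.refl i * G.full.refl j) = M i j) :
    Nonempty (Weyl (G.bnPair F) ≃* M.Group) := by
  obtain ⟨φ, hφ, hker, -⟩ := G.exists_coxeter F M hM
  have hmemN : ∀ {x : D.group F}, x ∈ (G.bnPair F).N → (x : GL D.Idx F) ∈ D.monomialSubgroup F :=
    fun h => h
  let e : (G.bnPair F).N →* D.monomialSubgroup F :=
    MonoidHom.mk' (fun n => ⟨((n : D.group F) : GL D.Idx F), hmemN n.2⟩) fun a b => rfl
  have he : Function.Surjective e := fun m =>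
    ⟨⟨⟨(m : GL D.Idx F), G.monomial_le_group m.2⟩, m.2⟩, rfl⟩
  have hk : (φ.comp e).ker = torus (G.bnPair F) := by
    ext n
    have h1 : n ∈ (φ.comp e).ker ↔ e n ∈ φ.ker := Iff.rfl
    rw [h1, hker, Subgroup.mem_subgroupOf, Subgroup.mem_subgroupOf, ← G.borel_inf_monomial]
    exact ⟨fun h => Subgroup.mem_inf.mpr ⟨(Subgroup.mem_inf.mp h).1, n.2⟩,
      fun h => Subgroup.mem_inf.mpr ⟨(Subgroup.mem_inf.mp h).1, hmemN n.2⟩⟩
  exact ⟨(QuotientGroup.quotientMulEquivOfEq hk.symm).trans
    (QuotientGroup.quotientKerEquivOfSurjective (φ.comp e) (hφ.comp he))⟩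

/-- Each simple cell has as many chambers as the field has elements. -/
theorem card_cell_sref (i : Fin D.rank) :
    Nat.card {x : D.group F ⧸ (G.bnPair F).B //
      cell (G.bnPair F) x = BN.refl (G.bnPair F) (G.sref F i)} = Nat.card F := by
  set P := G.bnPair F
  let n : D.group F := ⟨G.full.ns F i, G.ns_mem_group i⟩
  have hn : cellOf P n = BN.refl P (G.sref F i) := cellOf_eq (s_mem_cw P (G.sref F i))
  let f : F → D.group F ⧸ P.B := fun t =>
    (⟨G.full.x (D.simple i) t, G.x_mem_group _ _⟩ : D.group F) • (QuotientGroup.mk n)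
  have hf : ∀ t, cell P (f t) = BN.refl P (G.sref F i) := fun t => by
    rw [cell_smul (show (⟨G.full.x (D.simple i) t, G.x_mem_group _ _⟩ : D.group F) ∈ P.B from
      pos_le_borel G (G.x_mem_pos (G.pos_simp i) t)), cell_mk, hn]
  refine (Nat.card_congr (Equiv.ofBijective (fun t => ⟨f t, hf t⟩) ⟨?_, ?_⟩)).symm
  · intro a b h
    have h' : f a = f b := congrArg Subtype.val h
    rw [← sub_eq_zero]
    by_contra hab
    -- the difference would fix the chamber of the reflection
    have hfix : (G.full.ns F i)⁻¹ * G.full.x (D.simple i) (a - b) * G.full.ns F i ∈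
        D.borelSubgroup F := by
      have h2 : ((⟨G.full.x (D.simple i) b, G.x_mem_group _ _⟩ : D.group F)⁻¹ *
          ⟨G.full.x (D.simple i) a, G.x_mem_group _ _⟩) • (QuotientGroup.mk n : D.group F ⧸ P.B) =
          QuotientGroup.mk n := by
        rw [mul_smul, inv_smul_eq_iff]; exact h'
      rw [G.smul_mk_eq_iff] at h2
      simp only [Subgroup.coe_mul, Subgroup.coe_inv] at h2
      rwa [G.full.x_inv, G.full.x_add, neg_add_eq_sub] at h2
    obtain ⟨c, hc⟩ := G.ns_inv (F := F) i
    have hH : T.hT F c ∈ D.borelSubgroup F := by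
      refine Subgroup.mem_sup_right ?_
      rw [G.full.diagonal_eq_range]
      exact ⟨c, rfl⟩
    have hp := G.full.simple_lt i.isLt
    have h1 : G.full.ns F i * G.full.x (D.simple i) (a - b) * (G.full.ns F i)⁻¹ =
        G.full.x (negR D (D.simple i)) (-(a - b)) := by
      rw [G.full.ns_conj i.isLt hp, G.full.simple_reflect i.isLt,
        (G.full.node_spec i.isLt).2.2.2.1]
      simp
    have hneg : G.full.x (negR D (D.simple i)) (-(a - b)) ∈ D.borelSubgroup F := by
      rw [← h1]
      have := mul_mem (mul_mem (inv_mem hH) hfix) hH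
      convert this using 1
      have e : G.full.ns F i * G.full.ns F i = (T.hT F c)⁻¹ := by
        refine eq_inv_of_mul_eq_one_right ?_
        rw [← mul_assoc, ← hc, inv_mul_cancel]
      calc G.full.ns F i * G.full.x (D.simple i) (a - b) * (G.full.ns F i)⁻¹
          = (G.full.ns F i * G.full.ns F i) * ((G.full.ns F i)⁻¹ * G.full.x (D.simple i) (a - b) *
              G.full.ns F i) * (G.full.ns F i * G.full.ns F i)⁻¹ := by group
        _ = _ := by rw [e, inv_inv]
    have hB := G.x_mem_neg (Cert.negR_lt hp) (fun h => G.negR_pos (G.pos_simp i) h.2) (-(a - b))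
    have h2 : G.full.x (negR D (D.simple i)) (-(a - b)) ∈ D.borelSubgroup F ⊓ D.negUnipotent F :=
      Subgroup.mem_inf.mpr ⟨hneg, hB⟩
    rw [G.borel_inf_neg, Subgroup.mem_bot] at h2
    exact hab (neg_eq_zero.mp (G.x_eq_one (Cert.negR_lt hp) h2))
  · rintro ⟨x, hx⟩
    obtain ⟨u, hu, rfl⟩ := G.exists_pos_translate (n := n) (G.ns_mem_monomial i) x (hx.trans hn.symm)
    obtain ⟨w, hw, t, e⟩ := G.pos_split_simple i hu
    refine ⟨t, Subtype.ext ?_⟩
    show f t = u • QuotientGroup.mk n
    have hw' := G.x_conj_Up_inv i t hw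
    have hfix : ((⟨G.full.x (D.simple i) t, G.x_mem_group _ _⟩ : D.group F)⁻¹ * u) •
        (QuotientGroup.mk n : D.group F ⧸ P.B) = QuotientGroup.mk n := by
      rw [G.smul_mk_eq_iff]
      simp only [Subgroup.coe_mul, Subgroup.coe_inv, e, ← mul_assoc _ w]
      exact pos_le_borel G (G.Up_le_pos i (G.ns_conj_Up_inv i hw'))
    rw [mul_smul, inv_smul_eq_iff] at hfix
    exact hfix.symm

end Good

end Tab

end CfsgLib.Chev
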