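import Mathlib.Analysis.SpecialFunctions.Trigonometric.Basic
import Mathlib.LinearAlgebra.Matrix.Trace
import Mathlib.LinearAlgebra.Matrix.Notation
import Mathlib.NumberTheory.Niven

/-!
# The two-dimensional representations of a dihedral Hecke algebra
-/

set_option autoImplicit false

namespace CfsgLib.Hecke

open Real Matrix

/-- The sum of a cosine over a full period of the double angle. -/
theorem sum_cos_double {θ : ℝ} (hθ : sin θ ≠ 0) {m : ℕ} (hm : sin ((m : ℝ) * θ) = 0) (φ : ℝ) :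
    ∑ k ∈ Finset.range m, cos (2 * (k : ℝ) * θ + φ) = 0 := by
  have e : ∀ k : ℕ, cos (2 * (k : ℝ) * θ + φ) * (2 * sin θ) =
      sin (2 * ((k + 1 : ℕ) : ℝ) * θ + φ - θ) - sin (2 * (k : ℝ) * θ + φ - θ) := by
    intro k
    rw [sin_sub_sin]
    push_cast
    rw [show (2 * ((k : ℝ) + 1) * θ + φ - θ - (2 * (k : ℝ) * θ + φ - θ)) / 2 = θ by ring,
      show (2 * ((k : ℝ) + 1) * θ + φ - θ + (2 * (k : ℝ) * θ + φ - θ)) / 2 = 2 * (k : ℝ) * θ + φ by
        ring]
    ring
  have h := Finset.sum_range_sub (fun k : ℕ => sin (2 * (k : ℝ) * θ + φ - θ)) m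
  rw [← Finset.sum_congr rfl fun k _ => e k, ← Finset.sum_mul] at h
  have h0 : sin (2 * (m : ℝ) * θ + φ - θ) - sin (2 * ((0 : ℕ) : ℝ) * θ + φ - θ) = 0 := by
    rw [sin_sub_sin, show (2 * (m : ℝ) * θ + φ - θ - (2 * ((0 : ℕ) : ℝ) * θ + φ - θ)) / 2 =
      (m : ℝ) * θ by push_cast; ring, hm]
    ring
  rw [h0] at h
  exact (mul_eq_zero.1 h).resolve_right (mul_ne_zero two_ne_zero hθ)

/-- The matrix of the first generator. -/
def matA (a : ℝ) : Matrix (Fin 2) (Fin 2) ℝ := !![a, 1; 0, -1]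

/-- The matrix of the second generator. -/
def matB (b y : ℝ) : Matrix (Fin 2) (Fin 2) ℝ := !![-1, 0; y, b]

theorem matA_sq (a : ℝ) : matA a * matA a = (a - 1) • matA a + a • (1 : Matrix (Fin 2) (Fin 2) ℝ) := by
  ext i j
  fin_cases i <;> fin_cases j <;> simp [matA] <;> ring

theorem matB_sq (b y : ℝ) :
    matB b y * matB b y = (b - 1) • matB b y + b • (1 : Matrix (Fin 2) (Fin 2) ℝ) := by
  ext i j
  fin_cases i <;> fin_cases j <;> simp [matB] <;> ring

/-- What commutes with both generators is scalar. -/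
theorem exists_scalar {a b y : ℂ} (hb : b + 1 ≠ 0)
    {X : Matrix (Fin 2) (Fin 2) ℂ} (hA : X * !![a, 1; 0, -1] = !![a, 1; 0, -1] * X)
    (hB : X * !![-1, 0; y, b] = !![-1, 0; y, b] * X) : ∃ c : ℂ, X = c • (1 : Matrix _ _ ℂ) := by
  have a00 := congrFun₂ hA 0 0
  have a01 := congrFun₂ hA 0 1
  have b01 := congrFun₂ hB 0 1
  simp [Matrix.mul_apply, Fin.sum_univ_two] at a00 a01 b01
  have h10 : X 1 0 = 0 := by linear_combination -a00
  have h01 : X 0 1 = 0 := by
    refine (mul_eq_zero.1 (?_ : (b + 1) * X 0 1 = 0)).resolve_left hb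
    linear_combination b01
  refine ⟨X 0 0, ?_⟩
  ext i j
  fin_cases i <;> fin_cases j <;> simp [h10, h01]
  linear_combination -a01 + (-1 - a) * h01

variable {a b r θ : ℝ}

/-- The trace parameter. -/
noncomputable def yval (a b r θ : ℝ) : ℝ := a + b + 2 * r * cos θ

theorem quad_AB (hr : r ^ 2 = a * b) :
    let M := matA a * matB b (yval a b r θ)
    M * M = (2 * r * cos θ) • M - (r ^ 2) • (1 : Matrix (Fin 2) (Fin 2) ℝ) := by
  ext i j
  fin_cases i <;> fin_cases j <;> simp [matA, matB, yval, hr] <;> ring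

theorem quad_BA (hr : r ^ 2 = a * b) :
    let M := matB b (yval a b r θ) * matA a
    M * M = (2 * r * cos θ) • M - (r ^ 2) • (1 : Matrix (Fin 2) (Fin 2) ℝ) := by
  ext i j
  fin_cases i <;> fin_cases j <;> simp [matA, matB, yval, hr] <;> ring

theorem pow_formula {M : Matrix (Fin 2) (Fin 2) ℝ}
    (hM : M * M = (2 * r * cos θ) • M - (r ^ 2) • (1 : Matrix (Fin 2) (Fin 2) ℝ)) (k : ℕ) :
    sin θ • M ^ (k + 1) =
      (r ^ k * sin (((k : ℝ) + 1) * θ)) • M -
        (r ^ (k + 1) * sin ((k : ℝ) * θ)) • (1 : Matrix (Fin 2) (Fin 2) ℝ) := by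
  induction k with
  | zero => simp
  | succ k ih =>
    rw [pow_succ M, ← smul_mul_assoc, ih, sub_mul, smul_mul_assoc, smul_mul_assoc, one_mul, hM,
      smul_sub, smul_smul, smul_smul, sub_right_comm, ← sub_smul]
    push_cast
    have e : sin (((k : ℝ) + 1 + 1) * θ) = 2 * cos θ * sin (((k : ℝ) + 1) * θ) - sin ((k : ℝ) * θ) := by
      rw [show ((k : ℝ) + 1 + 1) * θ = ((k : ℝ) + 1) * θ + θ by ring,
        show (k : ℝ) * θ = ((k : ℝ) + 1) * θ - θ by ring, sin_add, sin_sub]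
      ring
    congr 2
    · rw [e]; ring
    · ring

theorem trace_pow {M : Matrix (Fin 2) (Fin 2) ℝ}
    (hM : M * M = (2 * r * cos θ) • M - (r ^ 2) • (1 : Matrix (Fin 2) (Fin 2) ℝ))
    (htr : M.trace = 2 * r * cos θ) (hs : sin θ ≠ 0) (k : ℕ) :
    (M ^ k).trace = 2 * r ^ k * cos ((k : ℝ) * θ) := by
  rcases k with - | k
  · simp
  refine mul_left_cancel₀ hs ?_
  have h := congrArg Matrix.trace (pow_formula hM k)
  rw [trace_smul, trace_sub, trace_smul, trace_smul, htr, trace_one, Fintype.card_fin] at h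
  simp only [smul_eq_mul] at h
  rw [h]
  push_cast
  rw [show ((k : ℝ) + 1) * θ = (k : ℝ) * θ + θ by ring, sin_add, cos_add]
  linear_combination (2 * r ^ (k + 1) * sin ((k : ℝ) * θ)) * (sin_sq_add_cos_sq θ)

theorem trace_AB : (matA a * matB b (yval a b r θ)).trace = 2 * r * cos θ := by
  simp [matA, matB, yval, trace_fin_two]; ring

theorem trace_BA : (matB b (yval a b r θ) * matA a).trace = 2 * r * cos θ := by
  rw [trace_mul_comm, trace_AB]

theorem trace_pow_mul_A (hr : r ^ 2 = a * b) (hr0 : r ≠ 0) (k : ℕ) :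
    ((matA a * matB b (yval a b r θ)) ^ k * matA a).trace * sin θ =
      r ^ k * ((a - 1) * sin (((k : ℝ) + 1) * θ) + a * (b - 1) / r * sin ((k : ℝ) * θ)) := by
  rcases k with - | k
  · simp [matA, trace_fin_two]; try (left; ring)
  have h := congrArg (fun X => (X * matA a).trace) (pow_formula (θ := θ) (quad_AB hr) k)
  simp only [sub_mul, smul_mul_assoc, one_mul, trace_sub, trace_smul, smul_eq_mul] at h
  rw [mul_comm _ (sin θ), h]
  have e : sin (((k : ℝ) + 1 + 1) * θ) = 2 * cos θ * sin (((k : ℝ) + 1) * θ) - sin ((k : ℝ) * θ) := by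
    rw [show ((k : ℝ) + 1 + 1) * θ = ((k : ℝ) + 1) * θ + θ by ring,
      show (k : ℝ) * θ = ((k : ℝ) + 1) * θ - θ by ring, sin_add, sin_sub]
    ring
  push_cast
  rw [e]
  simp [matA, matB, yval, trace_fin_two, pow_succ]
  field_simp
  ring

theorem trace_pow_mul_B (hr : r ^ 2 = a * b) (hr0 : r ≠ 0) (k : ℕ) :
    ((matB b (yval a b r θ) * matA a) ^ k * matB b (yval a b r θ)).trace * sin θ =
      r ^ k * ((b - 1) * sin (((k : ℝ) + 1) * θ) + b * (a - 1) / r * sin ((k : ℝ) * θ)) := by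
  rcases k with - | k
  · simp [matB, trace_fin_two]; try (left; ring)
  have h := congrArg (fun X => (X * matB b (yval a b r θ)).trace)
    (pow_formula (θ := θ) (quad_BA hr) k)
  simp only [sub_mul, smul_mul_assoc, one_mul, trace_sub, trace_smul, smul_eq_mul] at h
  rw [mul_comm _ (sin θ), h]
  have e : sin (((k : ℝ) + 1 + 1) * θ) = 2 * cos θ * sin (((k : ℝ) + 1) * θ) - sin ((k : ℝ) * θ) := by
    rw [show ((k : ℝ) + 1 + 1) * θ = ((k : ℝ) + 1) * θ + θ by ring,
      show (k : ℝ) * θ = ((k : ℝ) + 1) * θ - θ by ring, sin_add, sin_sub]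
    ring
  push_cast
  rw [e]
  simp [matA, matB, yval, trace_fin_two, pow_succ]
  field_simp
  ring

/-- The braid relation of even order. -/
theorem braid_even (hr : r ^ 2 = a * b) (hs : sin θ ≠ 0) {n : ℕ} (hn : 0 < n)
    (hθ : sin ((n : ℝ) * θ) = 0) :
    (matA a * matB b (yval a b r θ)) ^ n = (matB b (yval a b r θ) * matA a) ^ n := by
  obtain ⟨k, rfl⟩ := Nat.exists_eq_add_of_le hn
  rw [add_comm]
  push_cast at hθ
  rw [add_comm (1 : ℝ)] at hθ
  refine smul_right_injective (Matrix (Fin 2) (Fin 2) ℝ) hs ?_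
  show sin θ • _ = sin θ • _
  rw [pow_formula (θ := θ) (quad_AB hr), pow_formula (θ := θ) (quad_BA hr), hθ]
  simp

/-- The braid relation of odd order. -/
theorem braid_odd {q : ℝ} (hs : sin θ ≠ 0) {n : ℕ} (hn : 0 < n)
    (hθ : sin (((n : ℝ) + 1) * θ) = - sin ((n : ℝ) * θ)) :
    (matA q * matB q (yval q q q θ)) ^ n * matA q =
      (matB q (yval q q q θ) * matA q) ^ n * matB q (yval q q q θ) := by
  obtain ⟨k, rfl⟩ := Nat.exists_eq_add_of_le hn
  rw [add_comm]
  push_cast at hθ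
  have e : sin ((k : ℝ) * θ) = (2 * cos θ + 1) * sin (((k : ℝ) + 1) * θ) := by
    rw [add_comm (1 : ℝ) k] at hθ
    rw [show ((k : ℝ) + 1 + 1) * θ = ((k : ℝ) + 1) * θ + θ by ring, sin_add] at hθ
    have := sin_sub (((k : ℝ) + 1) * θ) θ
    rw [show ((k : ℝ) + 1) * θ - θ = (k : ℝ) * θ by ring] at this
    linear_combination this - hθ
  refine smul_right_injective (Matrix (Fin 2) (Fin 2) ℝ) hs ?_
  show sin θ • _ = sin θ • _
  rw [← smul_mul_assoc, ← smul_mul_assoc, pow_formula (θ := θ) (quad_AB (by ring)),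
    pow_formula (θ := θ) (quad_BA (by ring)), e]
  ext i j
  fin_cases i <;> fin_cases j <;>
    simp [matA, matB, yval, pow_succ, Matrix.mul_apply, Fin.sum_univ_two] <;> ring

end CfsgLib.Hecke
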