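import Cfsg.Agent.Hecke.Basic

/-!
# The Weyl group of a Tits system of rank two
-/

set_option autoImplicit false
set_option linter.style.haveILetI false
set_option linter.unusedSectionVars false

namespace CfsgLib.Hecke

open Cfsg CfsgLib.BN CfsgLib.StCh

attribute [local instance] torus_normal

variable {G : Type*} [Group G] {P : Cfsg.BNPair G}

/-- The alternating word. -/
def alt {S : Type*} : S → S → ℕ → List S
  | _, _, 0 => []
  | a, b, l + 1 => a :: alt b a l

theorem length_alt {S : Type*} : ∀ (l : ℕ) (a b : S), (alt a b l).length = l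
  | 0, _, _ => rfl
  | l + 1, a, b => by rw [alt, List.length_cons, length_alt l]

theorem alt_add_two {S : Type*} (a b : S) (l : ℕ) : alt a b (l + 2) = a :: b :: alt a b l := rfl

theorem prod_map_alt_even {S M : Type*} [Monoid M] (φ : S → M) (a b : S) :
    ∀ k, ((alt a b (2 * k)).map φ).prod = (φ a * φ b) ^ k
  | 0 => by simp [alt]
  | k + 1 => by
    rw [show 2 * (k + 1) = 2 * k + 2 by ring, alt_add_two, List.map_cons, List.map_cons,
      List.prod_cons, List.prod_cons, prod_map_alt_even φ a b k, pow_succ', mul_assoc]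

theorem prod_map_alt_odd {S M : Type*} [Monoid M] (φ : S → M) (a b : S) :
    ∀ k, ((alt a b (2 * k + 1)).map φ).prod = (φ a * φ b) ^ k * φ a
  | 0 => by simp [alt]
  | k + 1 => by
    rw [show 2 * (k + 1) + 1 = 2 * k + 1 + 2 by ring, alt_add_two, List.map_cons, List.map_cons,
      List.prod_cons, List.prod_cons, prod_map_alt_odd φ a b k, pow_succ']
    simp only [mul_assoc]

theorem wprod_alt_even (a b : P.S) (k : ℕ) :
    wprod P (alt a b (2 * k)) = (BN.refl P a * BN.refl P b) ^ k :=
  prod_map_alt_even (BN.refl P) a b k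

theorem wprod_alt_odd (a b : P.S) (k : ℕ) :
    wprod P (alt a b (2 * k + 1)) = (BN.refl P a * BN.refl P b) ^ k * BN.refl P a :=
  prod_map_alt_odd (BN.refl P) a b k

theorem refl_mul_refl_inv (a b : P.S) :
    BN.refl P b * BN.refl P a = (BN.refl P a * BN.refl P b)⁻¹ := by
  rw [mul_inv_rev, refl_inv, refl_inv]

theorem sign_mul_refl_pow (a b : P.S) (i : ℤ) :
    sign P ((BN.refl P a * BN.refl P b) ^ i) = 1 := by
  rw [map_zpow, map_mul, sign_refl, sign_refl]; simp

variable {s t : P.S} (hne : s ≠ t) (hS : ∀ x : P.S, x = s ∨ x = t)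

variable (s t) in
/-- The order of the product of the two reflections. -/
noncomputable def ord : ℕ := orderOf (BN.refl P s * BN.refl P t)

theorem zpow_eq_iff {i j : ℤ} :
    (BN.refl P s * BN.refl P t) ^ i = (BN.refl P s * BN.refl P t) ^ j ↔ (ord s t : ℤ) ∣ i - j := by
  rw [ord, orderOf_dvd_iff_zpow_eq_one, zpow_sub, mul_inv_eq_one]

theorem zpow_ne_zpow_mul (i j : ℤ) :
    (BN.refl P s * BN.refl P t) ^ i ≠ (BN.refl P s * BN.refl P t) ^ j * BN.refl P s := by
  intro e
  have := congrArg (sign P) e
  rw [map_mul, sign_mul_refl_pow, sign_mul_refl_pow, sign_refl] at this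
  exact absurd this (by decide)

include hne in
theorem two_le_ord [Finite G] : 2 ≤ ord s t := by
  have h1 : 0 < ord s t := orderOf_pos _
  have h2 : ord s t ≠ 1 := fun e => by
    rw [ord, orderOf_eq_one_iff, mul_eq_one_iff_inv_eq, refl_inv] at e
    exact hne (refl_injective P e)
  omega

theorem wprod_alt_st_even (k : ℕ) :
    wprod P (alt s t (2 * k)) = (BN.refl P s * BN.refl P t) ^ (k : ℤ) := by
  rw [wprod_alt_even, zpow_natCast]

theorem wprod_alt_ts_even (k : ℕ) :
    wprod P (alt t s (2 * k)) = (BN.refl P s * BN.refl P t) ^ (-(k : ℤ)) := by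
  rw [wprod_alt_even, refl_mul_refl_inv s t, inv_pow, zpow_neg, zpow_natCast]

theorem wprod_alt_st_odd (k : ℕ) :
    wprod P (alt s t (2 * k + 1)) = (BN.refl P s * BN.refl P t) ^ (k : ℤ) * BN.refl P s := by
  rw [wprod_alt_odd, zpow_natCast]

theorem wprod_alt_ts_odd (k : ℕ) :
    wprod P (alt t s (2 * k + 1)) =
      (BN.refl P s * BN.refl P t) ^ (-((k : ℤ) + 1)) * BN.refl P s := by
  rw [wprod_alt_odd, refl_mul_refl_inv s t, inv_pow, neg_add, zpow_add, zpow_neg, zpow_natCast,
    zpow_neg, zpow_one, mul_inv_rev (BN.refl P s), refl_inv, refl_inv]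
  simp only [mul_assoc, refl_sq, mul_one]

theorem wprod_alt_inv_even (a b : P.S) (k : ℕ) :
    (wprod P (alt a b (2 * k)))⁻¹ = wprod P (alt b a (2 * k)) := by
  rw [wprod_alt_even, wprod_alt_even, refl_mul_refl_inv a b, inv_pow]

theorem wprod_alt_inv_odd (a b : P.S) (k : ℕ) :
    (wprod P (alt a b (2 * k + 1)))⁻¹ = wprod P (alt a b (2 * k + 1)) := by
  rw [wprod_alt_odd, mul_inv_rev, refl_inv, ← inv_pow, ← refl_mul_refl_inv]
  induction k with
  | zero => simp
  | succ k ih =>
    rw [pow_succ, ← mul_assoc, ih, pow_succ]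
    simp only [mul_assoc]

include hS in
/-- A reduced word alternates. -/
theorem eq_alt_of_reduced : ∀ L : List P.S, len P (wprod P L) = L.length →
    L = alt s t L.length ∨ L = alt t s L.length
  | [], _ => Or.inl rfl
  | x :: L, h => by
    have hL := eq_alt_of_reduced L (reduced_tail P h)
    rcases L with - | ⟨y, L⟩
    · rcases hS x with rfl | rfl
      exacts [Or.inl rfl, Or.inr rfl]
    have hxy : x ≠ y := by
      rintro rfl
      rw [wprod_cons, wprod_cons, ← mul_assoc, refl_sq, one_mul] at h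
      have := len_le P L
      simp only [List.length_cons] at h
      omega
    simp only [List.length_cons] at hL ⊢
    rcases hL with e | e
    · have hy : y = s := (List.cons.inj e).1
      have hx : x = t := (hS x).resolve_left fun ex => hxy (ex.trans hy.symm)
      right; rw [e, hx]; rfl
    · have hy : y = t := (List.cons.inj e).1
      have hx : x = s := (hS x).resolve_right fun ex => hxy (ex.trans hy.symm)
      left; rw [e, hx]; rfl

/-- Beyond the order, an alternating word shortens. -/
theorem wprod_alt_wrap {a b : P.S} {m : ℕ} (hm : (BN.refl P a * BN.refl P b) ^ m = 1) {l : ℕ}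
    (hl : l ≤ 2 * m) : wprod P (alt a b l) = wprod P (alt b a (2 * m - l)) := by
  rcases Nat.even_or_odd' l with ⟨k, rfl | rfl⟩
  · rw [← Nat.mul_sub, wprod_alt_even, wprod_alt_even, refl_mul_refl_inv a b, inv_pow,
      eq_inv_iff_mul_eq_one, ← pow_add]
    rwa [Nat.add_sub_cancel' (by omega)]
  · obtain ⟨i, rfl⟩ : ∃ i, m = k + 1 + i := ⟨m - k - 1, by omega⟩
    rw [show 2 * (k + 1 + i) - (2 * k + 1) = 2 * i + 1 by omega, wprod_alt_odd, wprod_alt_odd,
      refl_mul_refl_inv a b, inv_pow, eq_inv_mul_iff_mul_eq, ← mul_assoc, ← pow_add]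
    rw [pow_add, pow_add, pow_one] at hm
    have h2 : (BN.refl P a * BN.refl P b) ^ k * (BN.refl P a * BN.refl P b) ^ i =
        (BN.refl P a * BN.refl P b)⁻¹ := by
      rw [eq_inv_iff_mul_eq_one, ← hm]
      simp only [← pow_succ, ← pow_add]
      congr 1; omega
    rw [add_comm, pow_add, h2, mul_inv_rev, refl_inv, refl_inv, mul_assoc, refl_sq, mul_one]

theorem pow_ord_eq_one : (BN.refl P s * BN.refl P t) ^ ord s t = 1 := pow_orderOf_eq_one _

theorem pow_ord_eq_one' : (BN.refl P t * BN.refl P s) ^ ord s t = 1 := by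
  rw [refl_mul_refl_inv s t, inv_pow, pow_ord_eq_one, inv_one]

/-- A reduced alternating word is no longer than the order. -/
theorem le_ord_of_reduced [Finite G] {a b : P.S}
    (hm : (BN.refl P a * BN.refl P b) ^ ord s t = 1) {l : ℕ}
    (h : len P (wprod P (alt a b l)) = l) : l ≤ ord s t := by
  have hpos : 0 < ord s t := orderOf_pos _
  by_contra hc
  by_cases h2 : l ≤ 2 * ord s t
  · rw [wprod_alt_wrap hm h2] at h
    have := len_le P (alt b a (2 * ord s t - l))
    rw [length_alt] at this
    omega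
  · obtain ⟨i, rfl⟩ : ∃ i, l = 2 * ord s t + i := ⟨l - 2 * ord s t, by omega⟩
    have e : wprod P (alt a b (2 * ord s t + i)) = wprod P (alt a b i) := by
      rcases Nat.even_or_odd' i with ⟨k, rfl | rfl⟩
      · rw [← Nat.mul_add, wprod_alt_even, wprod_alt_even, pow_add, hm, one_mul]
      · rw [show 2 * ord s t + (2 * k + 1) = 2 * (ord s t + k) + 1 by ring, wprod_alt_odd,
          wprod_alt_odd, pow_add, hm, one_mul]
    rw [e] at h
    have := len_le P (alt a b i)
    rw [length_alt] at this
    omega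

theorem alt_cross [Finite G] {l l' : ℕ} (hl : l ≤ ord s t) (hl' : l' ≤ ord s t)
    (e : wprod P (alt s t l) = wprod P (alt t s l')) :
    (l = 0 ∧ l' = 0) ∨ (l = ord s t ∧ l' = ord s t) := by
  have hpos : 0 < ord s t := orderOf_pos _
  rcases Nat.even_or_odd' l with ⟨k, rfl | rfl⟩ <;> rcases Nat.even_or_odd' l' with ⟨i, rfl | rfl⟩ <;>
    simp only [wprod_alt_st_even (s := s) (t := t), wprod_alt_ts_even (s := s) (t := t), wprod_alt_st_odd (s := s) (t := t), wprod_alt_ts_odd (s := s) (t := t)] at e
  · rw [zpow_eq_iff, sub_neg_eq_add, ← Nat.cast_add, Int.natCast_dvd_natCast] at e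
    obtain ⟨c, hc⟩ := e
    rcases c with - | c
    · left; omega
    · rw [Nat.mul_succ] at hc; right; omega
  · exact absurd e (zpow_ne_zpow_mul _ _)
  · exact absurd e.symm (zpow_ne_zpow_mul _ _)
  · rw [mul_left_inj, zpow_eq_iff, sub_neg_eq_add, show (k : ℤ) + ((i : ℤ) + 1) = ((k + i + 1 : ℕ) : ℤ)
      by push_cast; ring, Int.natCast_dvd_natCast] at e
    obtain ⟨c, hc⟩ := e
    rcases c with - | c
    · omega
    · rw [Nat.mul_succ] at hc; right; omega

theorem alt_same [Finite G] {l l' : ℕ} (hl : l ≤ ord s t) (hl' : l' ≤ ord s t) :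
    (wprod P (alt s t l) = wprod P (alt s t l') → l = l') ∧
      (wprod P (alt t s l) = wprod P (alt t s l') → l = l') := by
  have hpos : 0 < ord s t := orderOf_pos _
  have key : ∀ k i : ℕ, 2 * k ≤ ord s t → 2 * i ≤ ord s t →
      ((ord s t : ℤ) ∣ (k : ℤ) - i ∨ (ord s t : ℤ) ∣ (i : ℤ) - k) → k = i := by
    intro k i hk hi h
    have h' : ((k : ℤ) - i) = 0 := by
      refine Int.eq_zero_of_abs_lt_dvd (m := (ord s t : ℤ)) ?_ (by rw [abs_lt]; omega)
      rcases h with h | h
      · exact h
      · rw [← neg_sub]; exact dvd_neg.2 h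
    omega
  constructor <;> intro e <;>
  rcases Nat.even_or_odd' l with ⟨k, rfl | rfl⟩ <;> rcases Nat.even_or_odd' l' with ⟨i, rfl | rfl⟩ <;>
    simp only [wprod_alt_st_even (s := s) (t := t), wprod_alt_ts_even (s := s) (t := t), wprod_alt_st_odd (s := s) (t := t), wprod_alt_ts_odd (s := s) (t := t),
      mul_left_inj] at e
  · rw [zpow_eq_iff] at e; rw [key k i hl hl' (Or.inl e)]
  · exact absurd e (zpow_ne_zpow_mul _ _)
  · exact absurd e.symm (zpow_ne_zpow_mul _ _)
  · rw [zpow_eq_iff] at e; rw [key k i (by omega) (by omega) (Or.inl e)]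
  · rw [zpow_eq_iff, neg_sub_neg] at e; rw [key k i hl hl' (Or.inr e)]
  · exact absurd e (zpow_ne_zpow_mul _ _)
  · exact absurd e.symm (zpow_ne_zpow_mul _ _)
  · rw [zpow_eq_iff, neg_sub_neg, add_sub_add_right_eq_sub] at e
    rw [key k i (by omega) (by omega) (Or.inr e)]

include hS in
/-- An alternating word up to the order is reduced. -/
theorem alt_reduced [Finite G] {l : ℕ} (hl : l ≤ ord s t) :
    len P (wprod P (alt s t l)) = l ∧ len P (wprod P (alt t s l)) = l := by
  have key : ∀ w : Weyl P, ∃ l', len P w = l' ∧ l' ≤ ord s t ∧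
      (w = wprod P (alt s t l') ∨ w = wprod P (alt t s l')) := by
    intro w
    obtain ⟨L, rfl, hL⟩ := exists_reduced P w
    refine ⟨L.length, hL.symm, ?_, ?_⟩
    · rcases eq_alt_of_reduced hS L hL.symm with e | e
      · exact le_ord_of_reduced pow_ord_eq_one (by rw [← e]; exact hL.symm)
      · exact le_ord_of_reduced pow_ord_eq_one' (by rw [← e]; exact hL.symm)
    · rcases eq_alt_of_reduced hS L hL.symm with e | e
      exacts [Or.inl (congrArg _ e), Or.inr (congrArg _ e)]
  constructor
  · obtain ⟨l', hl', hle, e | e⟩ := key (wprod P (alt s t l))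
    · rw [hl', (alt_same hl hle).1 e]
    · rcases alt_cross hl hle e with ⟨a, b⟩ | ⟨a, b⟩ <;> omega
  · obtain ⟨l', hl', hle, e | e⟩ := key (wprod P (alt t s l))
    · rcases alt_cross hle hl e.symm with ⟨a, b⟩ | ⟨a, b⟩ <;> omega
    · rw [hl', (alt_same hl hle).2 e]

include hS in
/-- A map satisfying the braid relation depends only on the element. -/
theorem prod_map_eq_of_reduced [Finite G] {M : Type*} [Monoid M] (φ : P.S → M)
    (hφ : ((alt s t (ord s t)).map φ).prod = ((alt t s (ord s t)).map φ).prod) {L L' : List P.S}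
    (hL : len P (wprod P L) = L.length) (hL' : len P (wprod P L') = L'.length)
    (e : wprod P L = wprod P L') : (L.map φ).prod = (L'.map φ).prod := by
  have hlen : L.length = L'.length := by rw [← hL, e, hL']
  have hle : L.length ≤ ord s t := by
    rcases eq_alt_of_reduced hS L hL with h | h
    · exact le_ord_of_reduced pow_ord_eq_one (by rw [← h]; exact hL)
    · exact le_ord_of_reduced pow_ord_eq_one' (by rw [← h]; exact hL)
  rcases eq_alt_of_reduced hS L hL with h | h <;> rcases eq_alt_of_reduced hS L' hL' with h' | h'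
  · rw [h, h', hlen]
  · rw [h, h'] at e
    rcases alt_cross hle (hlen ▸ hle) e with ⟨a, b⟩ | ⟨a, b⟩
    · rw [h, h', a, b]; rfl
    · rw [h, h', a, b, hφ]
  · rw [h, h'] at e
    rcases alt_cross (hlen ▸ hle) hle e.symm with ⟨a, b⟩ | ⟨a, b⟩
    · rw [h, h', a, b]; rfl
    · rw [h, h', a, b, hφ]
  · rw [h, h', hlen]

variable (s t) in
/-- A reduced word for `(st)^k` or `(st)^k s`. -/
noncomputable def nword (p : Fin (ord s t) × Bool) : List P.S :=
  if p.2 then
    if 2 * p.1.val + 1 ≤ ord s t then alt s t (2 * p.1.val + 1)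
    else alt t s (2 * (ord s t - p.1.val - 1) + 1)
  else
    if 2 * p.1.val ≤ ord s t then alt s t (2 * p.1.val) else alt t s (2 * (ord s t - p.1.val))

theorem wprod_nword (p : Fin (ord s t) × Bool) :
    wprod P (nword s t p) = (BN.refl P s * BN.refl P t) ^ (p.1.val : ℤ) *
      if p.2 then BN.refl P s else 1 := by
  obtain ⟨k, b⟩ := p
  have hk := k.isLt
  cases b
  · simp only [nword, Bool.false_eq_true, if_false, mul_one]
    split_ifs
    · rw [wprod_alt_st_even (s := s) (t := t)]
    · rw [wprod_alt_ts_even (s := s) (t := t), zpow_eq_iff]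
      exact ⟨-1, by omega⟩
  · simp only [nword, if_true]
    split_ifs
    · rw [wprod_alt_st_odd (s := s) (t := t)]
    · rw [wprod_alt_ts_odd (s := s) (t := t), mul_left_inj, zpow_eq_iff]
      exact ⟨-1, by omega⟩

include hS in
theorem len_nword [Finite G] (p : Fin (ord s t) × Bool) :
    len P (wprod P (nword s t p)) = (nword s t p).length := by
  obtain ⟨k, b⟩ := p
  cases b
  · simp only [nword, Bool.false_eq_true, if_false]
    split_ifs
    · rw [(alt_reduced hS (by omega)).1, length_alt]
    · rw [(alt_reduced hS (by omega)).2, length_alt]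
  · simp only [nword, if_true]
    split_ifs
    · rw [(alt_reduced hS (by omega)).1, length_alt]
    · rw [(alt_reduced hS (by omega)).2, length_alt]

include hS in
theorem nword_bijective [Finite G] :
    Function.Bijective fun p : Fin (ord s t) × Bool => wprod P (nword s t p) := by
  have hpos : 0 < ord s t := orderOf_pos _
  constructor
  · rintro ⟨k, b⟩ ⟨i, c⟩ e
    simp only [wprod_nword] at e
    have key : ∀ k i : Fin (ord s t), (BN.refl P s * BN.refl P t) ^ (k.val : ℤ) =
        (BN.refl P s * BN.refl P t) ^ (i.val : ℤ) → k = i := fun k i h => by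
      rw [zpow_eq_iff] at h
      have := Int.eq_zero_of_abs_lt_dvd h (by rw [abs_lt]; omega)
      exact Fin.ext (by omega)
    cases b <;> cases c <;> simp only [Bool.false_eq_true, if_false, if_true, mul_one, mul_left_inj] at e
    · rw [key k i e]
    · exact absurd e (zpow_ne_zpow_mul _ _)
    · exact absurd e.symm (zpow_ne_zpow_mul _ _)
    · rw [key k i e]
  · intro w
    have hz : ∀ z : ℤ, ∃ k : Fin (ord s t), (BN.refl P s * BN.refl P t) ^ (k.val : ℤ) =
        (BN.refl P s * BN.refl P t) ^ z := fun z => by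
      have h0 := Int.emod_nonneg z (b := (ord s t : ℤ)) (by omega)
      have h1 := Int.emod_lt_of_pos z (b := (ord s t : ℤ)) (by omega)
      refine ⟨⟨(z % (ord s t : ℤ)).toNat, by omega⟩, ?_⟩
      rw [zpow_eq_iff]
      simp only [Int.toNat_of_nonneg h0]
      exact ⟨-(z / (ord s t : ℤ)), by rw [Int.emod_def]; ring⟩
    obtain ⟨L, rfl, hL⟩ := exists_reduced P w
    have : ∃ (z : ℤ) (b : Bool), wprod P L =
        (BN.refl P s * BN.refl P t) ^ z * if b then BN.refl P s else 1 := by
      rcases eq_alt_of_reduced hS L hL.symm with e | e <;>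
        rcases Nat.even_or_odd' L.length with ⟨k, hk | hk⟩ <;> rw [e, hk]
      · exact ⟨k, false, by simp [wprod_alt_st_even (s := s) (t := t)]⟩
      · exact ⟨k, true, by simp [wprod_alt_st_odd (s := s) (t := t)]⟩
      · exact ⟨-(k : ℤ), false, by simp [wprod_alt_ts_even (s := s) (t := t)]⟩
      · exact ⟨-((k : ℤ) + 1), true, by simp [wprod_alt_ts_odd (s := s) (t := t)]⟩
    obtain ⟨z, b, e⟩ := this
    obtain ⟨k, hk⟩ := hz z
    exact ⟨(k, b), by simp only [wprod_nword, hk, e]⟩

include hS in
theorem card_weyl [Finite G] : Nat.card (Weyl P) = 2 * ord s t := by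
  rw [← Nat.card_eq_of_bijective _ (nword_bijective hS), Nat.card_prod, Nat.card_fin,
    Nat.card_eq_fintype_card, Fintype.card_bool, mul_comm]

end CfsgLib.Hecke
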