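import Cfsg.Agent.Hecke.Group
import Cfsg.Agent.Hecke.DihedralWord
import Cfsg.Agent.Hecke.DihedralTrig

/-!
# The theorem of Feit and Higman for Tits systems of rank two

The element representing a two-dimensional character in the convolution algebra is a multiple of an
idempotent, so its trace makes the Schur element rational; this forces the Weyl group to be small.
-/

set_option autoImplicit false
set_option linter.style.haveILetI false
set_option linter.unusedSectionVars false

namespace CfsgLib.Hecke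

open Cfsg CfsgLib.BN CfsgLib.StCh
open scoped Classical

attribute [local instance] torus_normal

variable {G : Type*} [Group G] [Fintype G] {P : Cfsg.BNPair G}

variable (P) in
/-- The size of a simple cell. -/
noncomputable def qOf (x : P.S) : ℕ := Nat.card {c : G ⧸ P.B // cell P c = BN.refl P x}

theorem two_le_qOf (x : P.S) : 2 ≤ qOf P x := by
  obtain ⟨b, hb, h⟩ := exists_mul_mem_refl P x
  have h1 : cell P (QuotientGroup.mk x.1) = BN.refl P x := by
    rw [cell_mk]; exact cellOf_eq (s_mem_cw P x)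
  have h2 : cell P (QuotientGroup.mk (x.1 * b * x.1)) = BN.refl P x := by
    rw [cell_mk]; exact cellOf_eq h
  haveI : Nontrivial {c : G ⧸ P.B // cell P c = BN.refl P x} := by
    refine ⟨⟨_, h1⟩, ⟨_, h2⟩, fun e => not_mem_B P x ?_⟩
    have e' := congrArg Subtype.val e
    rw [QuotientGroup.eq, show x.1⁻¹ * (x.1 * b * x.1) = b * x.1 by group] at e'
    simpa using mul_mem (inv_mem hb) e'
  exact Finite.one_lt_card

variable [Fintype (Weyl P)]

theorem lop_single_desc {A : Type*} [CommRing A] (t : A) {x : P.S} {w : Weyl P}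
    (h : len P (BN.refl P x * w) < len P w) :
    lop P t x (single A w) = t • single A (BN.refl P x * w) + (t - 1) • single A w := by
  funext y
  rw [lop_apply]
  have hne : BN.refl P x * w ≠ w := fun e => refl_ne_one P x (mul_eq_right.1 e)
  simp only [Pi.add_apply, Pi.smul_apply, smul_eq_mul]
  by_cases h1 : y = w
  · subst h1
    rw [if_pos h, single_ne hne, single_self, single_ne hne.symm]
    ring
  · rw [single_ne h1]
    by_cases h2 : y = BN.refl P x * w
    · subst h2
      rw [← mul_assoc, refl_sq, one_mul, if_neg (by omega), single_self, single_self]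
      ring
    · rw [single_ne h2, single_ne (x := BN.refl P x * y) fun e => h2 (by
        rw [← e, ← mul_assoc, refl_sq, one_mul])]
      split_ifs <;> ring

/-- The size of the cell of a reduced word. -/
theorem card_cell_word : ∀ L : List P.S, len P (wprod P L) = L.length →
    ((Finset.univ.filter fun y : G => cellOf P y = wprod P L).card : ℂ) =
      (Nat.card P.B : ℂ) * ((L.map fun x => (qOf P x : ℂ)).prod)
  | [], _ => by rw [wprod_nil, card_filter_borel]; simp
  | x :: L, h => by
    have hL := reduced_tail P h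
    have hasc : len P (wprod P L) < len P (BN.refl P x * wprod P L) := by
      rw [← wprod_cons, h, hL, List.length_cons]; omega
    have hsum : ∀ v : Weyl P, ((Finset.univ.filter fun y : G => cellOf P y = v).card : ℂ) =
        ∑ y, lift P (single ℂ v) y := fun v => by
      simpa using (sum_lift_single (P := P) v fun _ => 1).symm
    have h3 := congrArg (fun F : G → ℂ => ∑ y, F y)
      (conv_lift_refl x (q := qOf P x) rfl (single ℂ (wprod P L)))
    rw [lop_single_asc hasc] at h3
    simp only [sum_conv, Pi.smul_apply, smul_eq_mul] at h3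
    rw [← Finset.mul_sum, ← hsum, ← hsum, ← hsum, card_filter_refl x (q := qOf P x) rfl,
      card_cell_word L hL] at h3
    rw [wprod_cons]
    push_cast at h3
    refine mul_left_cancel₀ (Nat.cast_ne_zero.2 Nat.card_pos.ne' : (Nat.card P.B : ℂ) ≠ 0) ?_
    rw [← h3, List.map_cons, List.prod_cons]
    ring

variable {φ : P.S → Matrix (Fin 2) (Fin 2) ℂ}
  (hquad : ∀ x, φ x * φ x = ((qOf P x : ℂ) - 1) • φ x + (qOf P x : ℂ) • (1 : Matrix _ _ ℂ))
  (hwd : ∀ L L' : List P.S, len P (wprod P L) = L.length → len P (wprod P L') = L'.length →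
    wprod P L = wprod P L' → (L.map φ).prod = (L'.map φ).prod)

/-- The matrix of an element. -/
noncomputable def rmat (φ : P.S → Matrix (Fin 2) (Fin 2) ℂ) (w : Weyl P) :
    Matrix (Fin 2) (Fin 2) ℂ := ((red P w).map φ).prod

/-- The representation on functions. -/
noncomputable def rho (φ : P.S → Matrix (Fin 2) (Fin 2) ℂ) :
    (Weyl P → ℂ) →ₗ[ℂ] Matrix (Fin 2) (Fin 2) ℂ :=
  (Nat.card P.B : ℂ) • ∑ w, (LinearMap.proj w).smulRight (rmat φ w)

theorem rho_apply (f : Weyl P → ℂ) :
    rho φ f = (Nat.card P.B : ℂ) • ∑ w, f w • rmat φ w := by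
  simp [rho, LinearMap.sum_apply]

theorem rho_single (w : Weyl P) : rho φ (single ℂ w) = (Nat.card P.B : ℂ) • rmat φ w := by
  rw [rho_apply, Finset.sum_eq_single w (fun v _ hv => by rw [single_ne hv, zero_smul])
    fun h => absurd (Finset.mem_univ w) h, single_self, one_smul]

include hwd

theorem rmat_word {L : List P.S} (hL : len P (wprod P L) = L.length) :
    rmat φ (wprod P L) = (L.map φ).prod :=
  hwd _ _ (by rw [(red_spec _).1, (red_spec _).2]) hL (red_spec _).1

theorem rmat_one : rmat φ (1 : Weyl P) = 1 := by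
  have := rmat_word hwd (L := ([] : List P.S)) (by rw [wprod_nil, len_one]; rfl)
  simpa [wprod_nil] using this

theorem rmat_asc {x : P.S} {w : Weyl P} (h : len P w < len P (BN.refl P x * w)) :
    rmat φ (BN.refl P x * w) = φ x * rmat φ w := by
  obtain ⟨L, rfl, hL⟩ := exists_reduced P w
  rw [← wprod_cons, rmat_word hwd hL.symm, rmat_word hwd, List.map_cons, List.prod_cons]
  rw [wprod_cons, List.length_cons]
  rcases len_refl_mul_cases P x (wprod P L) with h' | h' <;> omega

include hquad

theorem rho_lop (x : P.S) (f : Weyl P → ℂ) :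
    rho φ (lop P (qOf P x : ℂ) x f) = φ x * rho φ f := by
  conv_lhs => rw [← sum_single f]
  conv_rhs => rw [← sum_single f]
  simp only [map_sum, map_smul, Finset.mul_sum, mul_smul_comm]
  refine Finset.sum_congr rfl fun w _ => congrArg (f w • ·) ?_
  rw [rho_single, mul_smul_comm]
  rcases len_refl_mul_cases P x w with h | h
  · rw [lop_single_asc (by omega), rho_single, rmat_asc hwd (by omega)]
  · rw [lop_single_desc _ (by omega), map_add, map_smul, map_smul, rho_single, rho_single]
    have e : rmat φ w = φ x * rmat φ (BN.refl P x * w) := by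
      have := rmat_asc hwd (x := x) (w := BN.refl P x * w) (by
        rw [← mul_assoc, refl_sq, one_mul]; omega)
      rwa [← mul_assoc, refl_sq, one_mul] at this
    rw [e, ← mul_assoc (φ x), hquad, add_mul, smul_mul_assoc, smul_mul_assoc, one_mul]
    module

theorem exists_conv (f g : Weyl P → ℂ) :
    ∃ h, conv (lift P f) (lift P g) = lift P h ∧ rho φ h = rho φ f * rho φ g := by
  have hB : (Nat.card P.B : ℂ) ≠ 0 := Nat.cast_ne_zero.2 Nat.card_pos.ne'
  have key : ∀ n, ∀ w : Weyl P, len P w = n → ∀ g : Weyl P → ℂ,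
      ∃ h, conv (lift P (single ℂ w)) (lift P g) = lift P h ∧
        rho φ h = rho φ (single ℂ w) * rho φ g := by
    intro n
    induction n with
    | zero =>
      intro w hw g
      refine ⟨(Nat.card P.B : ℂ) • g, by rw [eq_one_of_len P hw, conv_lift_one]; rfl, ?_⟩
      rw [eq_one_of_len P hw, rho_single, rmat_one hwd, map_smul, smul_one_mul]
    | succ n ih =>
      intro w hw g
      obtain ⟨L, hL, hl⟩ := exists_reduced P w
      rcases L with - | ⟨x, L⟩
      · rw [List.length_nil] at hl; omega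
      rw [wprod_cons] at hL
      rw [List.length_cons] at hl
      have h1 := len_le P L
      have h2 := len_refl_mul_cases P x (wprod P L)
      rw [hL] at h2
      have hn : len P (wprod P L) = n := by omega
      obtain ⟨h', e1, e2⟩ := ih _ hn g
      have e3 : lift P (single ℂ w) = (Nat.card P.B : ℂ)⁻¹ •
          conv (lift P (single ℂ (BN.refl P x))) (lift P (single ℂ (wprod P L))) := by
        rw [conv_lift_refl x (q := qOf P x) rfl, lop_single_asc (by rw [hL]; omega), hL,
          inv_smul_smul₀ hB]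
      refine ⟨lop P (qOf P x : ℂ) x h', ?_, ?_⟩
      · rw [e3, conv_smul_left, conv_assoc, e1, conv_lift_refl x (q := qOf P x) rfl,
          inv_smul_smul₀ hB]
      · rw [rho_lop hquad hwd, e2, rho_single, rho_single, ← hL, rmat_asc hwd (by rw [hL]; omega)]
        simp only [mul_smul_comm, smul_mul_assoc, mul_assoc]
  choose H h1 h2 using fun w => key _ w rfl g
  refine ⟨∑ w, f w • H w, ?_, ?_⟩
  · have hf : lift P f = ∑ w, f w • lift P (single ℂ w) := by
      conv_lhs => rw [← sum_single f]
      funext y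
      simp [lift, Finset.sum_apply]
    rw [hf, conv_sum_left]
    funext y
    simp only [Finset.sum_apply, conv_smul_left, h1, Pi.smul_apply, lift]
  · conv_rhs => rw [← sum_single f]
    simp only [map_sum, map_smul, Finset.sum_mul, smul_mul_assoc, h2]

omit hquad hwd

/-- The element representing the character. -/
noncomputable def mu (φ : P.S → Matrix (Fin 2) (Fin 2) ℂ) (w : Weyl P) : ℂ :=
  (rho φ (single ℂ w⁻¹)).trace / ((Finset.univ.filter fun y : G => cellOf P y = w).card : ℂ)

theorem card_cell_inv (w : Weyl P) :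
    (Finset.univ.filter fun y : G => cellOf P y = w⁻¹).card =
      (Finset.univ.filter fun y : G => cellOf P y = w).card := by
  refine Finset.card_bij' (fun y _ => y⁻¹) (fun y _ => y⁻¹) ?_ ?_ ?_ ?_
  · intro y hy
    simp only [Finset.mem_filter, Finset.mem_univ, true_and] at hy ⊢
    rw [cellOf_inv, hy, inv_inv]
  · intro y hy
    simp only [Finset.mem_filter, Finset.mem_univ, true_and] at hy ⊢
    rw [cellOf_inv, hy]
  · intro y _; simp
  · intro y _; simp

theorem card_cell_ne_zero (w : Weyl P) :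
    ((Finset.univ.filter fun y : G => cellOf P y = w).card : ℂ) ≠ 0 := by
  obtain ⟨y, hy⟩ := cellOf_surjective (P := P) w
  exact Nat.cast_ne_zero.2 (Finset.card_pos.2 ⟨y, by simp [hy]⟩).ne'

/-- The defining property. -/
theorem conv_mu_one (f : Weyl P → ℂ) :
    conv (lift P f) (lift P (mu φ)) 1 = (rho φ f).trace := by
  conv_rhs => rw [← sum_single f]
  rw [map_sum, Matrix.trace_sum, conv,
    ← Finset.sum_fiberwise Finset.univ (cellOf P) fun y => lift P f y * lift P (mu φ) (y⁻¹ * 1)]
  refine Finset.sum_congr rfl fun w _ => ?_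
  rw [map_smul, Matrix.trace_smul, smul_eq_mul,
    Finset.sum_congr rfl (g := fun _ => f w * mu φ w⁻¹) fun y hy => ?_, Finset.sum_const,
    nsmul_eq_mul, mu, inv_inv, card_cell_inv]
  · have := card_cell_ne_zero (P := P) w
    field_simp
  · have hy' := (Finset.mem_filter.1 hy).2
    simp only [lift, mul_one, cellOf_inv, hy']

omit [Fintype (Weyl P)] in
theorem conv_one_comm (f g : G → ℂ) : conv f g 1 = conv g f 1 := by
  refine Fintype.sum_equiv (Equiv.inv G) _ _ fun y => ?_
  simp [mul_comm]

theorem lift_eq_of_pairing {f f' : Weyl P → ℂ}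
    (h : ∀ g : Weyl P → ℂ, conv (lift P g) (lift P f) 1 = conv (lift P g) (lift P f') 1) :
    f = f' := by
  funext w
  have hw := h (single ℂ w⁻¹)
  simp only [conv, sum_lift_single] at hw
  rw [Finset.sum_congr rfl (g := fun _ => f w) fun y hy => ?_, Finset.sum_const,
    Finset.sum_congr rfl (g := fun _ => f' w) fun y hy => ?_, Finset.sum_const, nsmul_eq_mul,
    nsmul_eq_mul] at hw
  · exact mul_left_cancel₀ (card_cell_ne_zero _) hw
  all_goals
    have hy' := (Finset.mem_filter.1 hy).2
    simp only [lift, mul_one, cellOf_inv, hy', inv_inv]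

theorem mu_one (h1 : rmat φ (1 : Weyl P) = 1) : mu φ (1 : Weyl P) = 2 := by
  rw [mu, inv_one, rho_single, h1, Matrix.trace_smul, Matrix.trace_one, card_filter_borel,
    Fintype.card_fin, smul_eq_mul]
  have : (Nat.card P.B : ℂ) ≠ 0 := Nat.cast_ne_zero.2 Nat.card_pos.ne'
  field_simp
  norm_num

include hquad hwd

/-- **The trace of the idempotent.** -/
theorem exists_rank (hscalar : ∀ X : Matrix (Fin 2) (Fin 2) ℂ,
      (∀ x, X * φ x = φ x * X) → ∃ c : ℂ, X = c • (1 : Matrix _ _ ℂ))
    (h0 : (rho φ (mu φ)).trace ≠ 0) :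
    ∃ d : ℕ, (d : ℂ) * (rho φ (mu φ)).trace = 4 * (Nat.card G : ℂ) := by
  set μ := mu φ with hμ
  -- commuting with the algebra
  have hcentral : ∀ f, rho φ f * rho φ μ = rho φ μ * rho φ f := fun f => by
    obtain ⟨h, e1, e2⟩ := exists_conv hquad hwd f μ
    obtain ⟨h', e1', e2'⟩ := exists_conv hquad hwd μ f
    suffices h = h' by rw [← e2, ← e2', this]
    refine lift_eq_of_pairing fun g => ?_
    obtain ⟨k, k1, k2⟩ := exists_conv hquad hwd g f
    obtain ⟨l, l1, l2⟩ := exists_conv hquad hwd g μ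
    obtain ⟨l', l1', l2'⟩ := exists_conv hquad hwd f g
    rw [← e1, ← conv_assoc, k1, hμ, conv_mu_one, k2, ← e1', ← conv_assoc, conv_one_comm,
      ← conv_assoc, l1', hμ, conv_mu_one, l2', Matrix.trace_mul_comm]
  have hB : (Nat.card P.B : ℂ) ≠ 0 := Nat.cast_ne_zero.2 Nat.card_pos.ne'
  obtain ⟨c, hc⟩ := hscalar (rho φ μ) fun x => by
    have h := hcentral (single ℂ (BN.refl P x))
    have e : rho φ (single ℂ (BN.refl P x)) = (Nat.card P.B : ℂ) • φ x := by
      rw [rho_single]
      congr 1
      have := rmat_asc hwd (x := x) (w := 1) (by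
        rw [mul_one, len_one]
        exact Nat.pos_of_ne_zero fun e => refl_ne_one P x (eq_one_of_len P e))
      rwa [mul_one, rmat_one hwd, mul_one] at this
    rw [e, smul_mul_assoc, mul_smul_comm] at h
    exact (smul_right_injective _ hB h).symm
  have htr : (rho φ μ).trace = 2 * c := by
    rw [hc, Matrix.trace_smul, Matrix.trace_one, Fintype.card_fin, smul_eq_mul]
    push_cast; ring
  have hc0 : c ≠ 0 := fun e => h0 (by rw [htr, e, mul_zero])
  have hMM : conv (lift P μ) (lift P μ) = c • lift P μ := by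
    obtain ⟨h, e1, e2⟩ := exists_conv hquad hwd μ μ
    rw [e1, ← lift_smul]
    congr 1
    refine lift_eq_of_pairing fun g => ?_
    obtain ⟨l, l1, l2⟩ := exists_conv hquad hwd g μ
    rw [← e1, ← conv_assoc, l1, hμ, conv_mu_one, l2, ← hμ, lift_smul, conv_smul_right, Pi.smul_apply,
      hμ, conv_mu_one, ← hμ, hc, mul_smul_comm, mul_one, Matrix.trace_smul]
  let K : Matrix G G ℂ := fun x y => c⁻¹ * lift P μ (x⁻¹ * y)
  have hK : IsIdempotentElem (Matrix.toLin' K) := by
    show Matrix.toLin' K * Matrix.toLin' K = Matrix.toLin' K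
    rw [Module.End.mul_eq_comp, ← Matrix.toLin'_mul]
    congr 1
    ext x z
    have h := congrFun hMM (x⁻¹ * z)
    simp only [conv, Pi.smul_apply, smul_eq_mul] at h
    rw [Matrix.mul_apply]
    calc ∑ y, K x y * K y z
        = c⁻¹ * c⁻¹ * ∑ y, lift P μ y * lift P μ (y⁻¹ * (x⁻¹ * z)) := by
          rw [Finset.mul_sum]
          refine Fintype.sum_equiv (Equiv.mulLeft x⁻¹) _ _ fun y => ?_
          simp only [Equiv.coe_mulLeft, K]
          rw [show (x⁻¹ * y)⁻¹ * (x⁻¹ * z) = y⁻¹ * z by group]
          ring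
      _ = K x z := by rw [h]; simp only [K]; field_simp
  have ht := (LinearMap.IsIdempotentElem.isProj_range _ hK).trace
  rw [Matrix.trace_toLin'_eq, Matrix.trace] at ht
  refine ⟨Module.finrank ℂ (LinearMap.range (Matrix.toLin' K)), ?_⟩
  rw [← ht, htr]
  have hdiag : ∀ x : G, K.diag x = c⁻¹ * 2 := fun x => by
    show c⁻¹ * lift P μ (x⁻¹ * x) = _
    rw [inv_mul_cancel, show lift P μ 1 = μ (cellOf P 1) from rfl,
      (cellOf_eq_one (P := P)).2 (one_mem _), hμ, mu_one (rmat_one hwd)]
  rw [Finset.sum_congr rfl fun x _ => hdiag x, Finset.sum_const, Finset.card_univ, nsmul_eq_mul,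
    Nat.card_eq_fintype_card]
  field_simp
  ring

omit hquad

theorem trace_rho_mu :
    (rho φ (mu φ)).trace = (Nat.card P.B : ℂ) ^ 2 * ∑ w : Weyl P,
      (rmat φ w⁻¹).trace * (rmat φ w).trace /
        ((Finset.univ.filter fun y : G => cellOf P y = w).card : ℂ) := by
  rw [rho_apply, Matrix.trace_smul, Matrix.trace_sum, smul_eq_mul, Finset.mul_sum, Finset.mul_sum]
  refine Finset.sum_congr rfl fun w _ => ?_
  rw [Matrix.trace_smul, mu, rho_single, Matrix.trace_smul, smul_eq_mul, smul_eq_mul]
  ring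

omit hwd

section RankTwo

open Real

variable {s t : P.S} (hne : s ≠ t) (hS : ∀ x : P.S, x = s ∨ x = t)
include hne hS

omit [Fintype (Weyl P)] in
theorem qOf_eq_of_odd (hodd : Odd (ord s t)) : qOf P s = qOf P t := by
  haveI : Fintype (Weyl P) := Fintype.ofFinite _
  obtain ⟨n, hn⟩ := hodd
  have hn' : 2 * n + 1 ≤ ord s t := by omega
  have h1 := card_cell_word (alt s t (2 * n + 1)) (by rw [(alt_reduced hS hn').1, length_alt])
  have h2 := card_cell_word (alt t s (2 * n + 1)) (by rw [(alt_reduced hS hn').2, length_alt])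
  have he : wprod P (alt s t (2 * n + 1)) = wprod P (alt t s (2 * n + 1)) := by
    rw [wprod_alt_wrap pow_ord_eq_one (by omega), show 2 * ord s t - (2 * n + 1) = 2 * n + 1 by omega]
  rw [he, h2, prod_map_alt_odd, prod_map_alt_odd, mul_comm (qOf P t : ℂ) (qOf P s : ℂ)] at h1
  have hq : ∀ x, (qOf P x : ℂ) ≠ 0 := fun x =>
    Nat.cast_ne_zero.2 (by have := two_le_qOf x; omega)
  have h3 := mul_left_cancel₀ (pow_ne_zero n (mul_ne_zero (hq s) (hq t)))
    (mul_left_cancel₀ (Nat.cast_ne_zero.2 Nat.card_pos.ne') h1)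
  exact_mod_cast h3.symm

/-- The rationality forced by a two-dimensional representation. -/
theorem exists_rat {j : ℕ} (hs : sin (2 * π * j / ord s t) ≠ 0) :
    ∃ x : ℚ, ((qOf P s : ℝ) - 1) ^ 2 / qOf P s + ((qOf P t : ℝ) - 1) ^ 2 / qOf P t +
        2 * (((qOf P s : ℝ) - 1) * ((qOf P t : ℝ) - 1) / √((qOf P s : ℝ) * qOf P t)) *
          cos (2 * π * j / ord s t) = (x : ℝ) * sin (2 * π * j / ord s t) ^ 2 := by
  have hm : 2 ≤ ord s t := two_le_ord hne
  set m := ord s t with hmdef
  set θ : ℝ := 2 * π * j / m with hθdef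
  set a : ℝ := (qOf P s : ℝ) with hadef
  set b : ℝ := (qOf P t : ℝ) with hbdef
  set r : ℝ := √(a * b) with hrdef
  have ha : 2 ≤ a := by rw [hadef]; exact_mod_cast two_le_qOf s
  have hb : 2 ≤ b := by rw [hbdef]; exact_mod_cast two_le_qOf t
  have hrpos : 0 < r := Real.sqrt_pos.2 (by positivity)
  have hr : r ^ 2 = a * b := Real.sq_sqrt (by positivity)
  have hmθ : (m : ℝ) * θ = j * (2 * π) := by rw [hθdef]; field_simp
  have hm0 : sin ((m : ℝ) * θ) = 0 := by
    rw [hmθ, show (j : ℝ) * (2 * π) = ((2 * j : ℕ) : ℝ) * π by push_cast; ring]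
    exact sin_nat_mul_pi _
  have hsym : ∀ u : ℝ, sin ((m : ℝ) * θ - u) = - sin u ∧ cos ((m : ℝ) * θ - u) = cos u := fun u => by
    rw [hmθ]; exact ⟨sin_nat_mul_two_pi_sub u j, cos_nat_mul_two_pi_sub u j⟩
  set y := yval a b r θ
  let φR : P.S → Matrix (Fin 2) (Fin 2) ℝ := fun x => if x = s then matA a else matB b y
  let ι := (Complex.ofRealHom).mapMatrix (m := Fin 2)
  let φ : P.S → Matrix (Fin 2) (Fin 2) ℂ := fun x => ι (φR x)
  have φs : φR s = matA a := if_pos rfl
  have φt : φR t = matB b y := if_neg hne.symm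
  have hprod : ∀ L : List P.S, (L.map φ).prod = ι (L.map φR).prod := fun L => by
    rw [map_list_prod, List.map_map]; rfl
  have htrι : ∀ X : Matrix (Fin 2) (Fin 2) ℝ, (ι X).trace = (X.trace : ℂ) := fun X => by
    simp [ι, Matrix.trace_fin_two]
  have hsmulι : ∀ (c : ℝ) (X : Matrix (Fin 2) (Fin 2) ℝ), ι (c • X) = (c : ℂ) • ι X := fun c X => by
    ext i k; simp [ι]
  have hquad : ∀ x, φ x * φ x =
      ((qOf P x : ℂ) - 1) • φ x + (qOf P x : ℂ) • (1 : Matrix _ _ ℂ) := by
    intro x
    rcases hS x with rfl | rfl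
    · simp only [φ, φs, ← map_mul, matA_sq, map_add, hsmulι, map_one, hadef]
      push_cast; rfl
    · simp only [φ, φt, ← map_mul, matB_sq, map_add, hsmulι, map_one, hbdef]
      push_cast; rfl
  have hbraid : ((alt s t m).map φ).prod = ((alt t s m).map φ).prod := by
    rw [hprod, hprod]
    congr 1
    rcases Nat.even_or_odd' m with ⟨n, hn | hn⟩
    · rw [hn, prod_map_alt_even, prod_map_alt_even, φs, φt]
      refine braid_even hr hs (by omega) ?_
      rw [show (n : ℝ) * θ = ((m : ℝ) * θ) / 2 by rw [hn]; push_cast; ring, hmθ,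
        show (j : ℝ) * (2 * π) / 2 = (j : ℝ) * π by ring]
      exact sin_nat_mul_pi _
    · have hab : a = b := by rw [hadef, hbdef, qOf_eq_of_odd hne hS ⟨n, hn⟩]
      have hra : r = a := by rw [hrdef, ← hab]; exact Real.sqrt_mul_self (by linarith)
      rw [hn, prod_map_alt_odd, prod_map_alt_odd, φs, φt,
        show y = yval a a a θ by rw [← hra]; nth_rewrite 2 [hra]; rw [hab]; simp [y, hra, hab]]
      rw [← hab]
      refine braid_odd hs (by omega) ?_
      rw [← (hsym ((n : ℝ) * θ)).1]
      congr 1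
      rw [hn]; push_cast; ring
  have hwd : ∀ L L' : List P.S, len P (wprod P L) = L.length → len P (wprod P L') = L'.length →
      wprod P L = wprod P L' → (L.map φ).prod = (L'.map φ).prod :=
    fun L L' h h' e => prod_map_eq_of_reduced hS φ hbraid h h' e
  have hscalar : ∀ X : Matrix (Fin 2) (Fin 2) ℂ,
      (∀ x, X * φ x = φ x * X) → ∃ c : ℂ, X = c • (1 : Matrix _ _ ℂ) := by
    intro X hX
    have eA : φ s = !![(a : ℂ), 1; 0, -1] := by
      simp only [φ, φs]; ext i k; fin_cases i <;> fin_cases k <;> simp [ι, matA]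
    have eB : φ t = !![-1, 0; (y : ℂ), (b : ℂ)] := by
      simp only [φ, φt]; ext i k; fin_cases i <;> fin_cases k <;> simp [ι, matB]
    refine exists_scalar (a := (a : ℂ)) (b := (b : ℂ)) (y := (y : ℂ)) ?_ (eA ▸ hX s) (eB ▸ hX t)
    have : (b + 1 : ℝ) ≠ 0 := by linarith
    exact_mod_cast this
  -- the summands
  let T : ℕ → ℝ := fun k => (a - 1) ^ 2 / a * sin (((k : ℝ) + 1) * θ) ^ 2 +
    (b - 1) ^ 2 / b * sin ((k : ℝ) * θ) ^ 2 +
    2 * ((a - 1) * (b - 1) / r) * (sin (((k : ℝ) + 1) * θ) * sin ((k : ℝ) * θ))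
  let F : Fin m × Bool → ℝ := fun p =>
    if p.2 then T p.1.val / sin θ ^ 2 else 4 * cos ((p.1.val : ℝ) * θ) ^ 2
  have hcard : ∀ L : List P.S, len P (wprod P L) = L.length →
      ((Finset.univ.filter fun z : G => cellOf P z = wprod P L).card : ℂ) =
        (Nat.card P.B : ℂ) * (((L.map fun x => (qOf P x : ℝ)).prod : ℝ) : ℂ) := fun L hL => by
    rw [card_cell_word L hL]
    congr 1
    rw [show ((((L.map fun x => (qOf P x : ℝ)).prod : ℝ)) : ℂ) =
      Complex.ofRealHom ((L.map fun x => (qOf P x : ℝ)).prod) from rfl, map_list_prod, List.map_map]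
    simp [Function.comp_def]
  have htrace : ∀ L : List P.S, len P (wprod P L) = L.length →
      (rmat φ (wprod P L)).trace = (((L.map φR).prod.trace : ℝ) : ℂ) := fun L hL => by
    rw [rmat_word hwd hL, hprod, htrι]
  have hterm : ∀ p : Fin m × Bool,
      (rmat φ (wprod P (nword s t p))⁻¹).trace * (rmat φ (wprod P (nword s t p))).trace /
        ((Finset.univ.filter fun z : G => cellOf P z = wprod P (nword s t p)).card : ℂ) =
        (F p : ℂ) / (Nat.card P.B : ℂ) := by
    rintro ⟨k, bb⟩
    have hk := k.isLt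
    have heven : ∀ (i : ℕ), 2 * i ≤ m →
        (rmat φ (wprod P (alt s t (2 * i)))⁻¹).trace * (rmat φ (wprod P (alt s t (2 * i)))).trace /
            ((Finset.univ.filter fun z : G => cellOf P z = wprod P (alt s t (2 * i))).card : ℂ) =
          ((4 * cos ((i : ℝ) * θ) ^ 2 : ℝ) : ℂ) / (Nat.card P.B : ℂ) ∧
        (rmat φ (wprod P (alt t s (2 * i)))⁻¹).trace * (rmat φ (wprod P (alt t s (2 * i)))).trace /
            ((Finset.univ.filter fun z : G => cellOf P z = wprod P (alt t s (2 * i))).card : ℂ) =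
          ((4 * cos ((i : ℝ) * θ) ^ 2 : ℝ) : ℂ) / (Nat.card P.B : ℂ) := by
      intro i hi
      have h1 := (alt_reduced hS hi).1
      have h2 := (alt_reduced hS hi).2
      have hA := htrace _ (h1.trans (length_alt _ _ _).symm)
      have hB' := htrace _ (h2.trans (length_alt _ _ _).symm)
      rw [wprod_alt_inv_even, wprod_alt_inv_even, hA, hB', hcard _ (h1.trans (length_alt _ _ _).symm),
        hcard _ (h2.trans (length_alt _ _ _).symm)]
      simp only [prod_map_alt_even, φs, φt]
      rw [trace_pow (quad_AB hr) trace_AB hs, trace_pow (quad_BA hr) trace_BA hs, ← hadef, ← hbdef,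
        mul_comm b a, ← hr]
      have hB : (Nat.card P.B : ℂ) ≠ 0 := Nat.cast_ne_zero.2 Nat.card_pos.ne'
      have hrC : (r : ℂ) ≠ 0 := by exact_mod_cast hrpos.ne'
      push_cast
      rw [← pow_mul]
      constructor <;> field_simp <;> ring
    have hodd : ∀ (i : ℕ), 2 * i + 1 ≤ m →
        (rmat φ (wprod P (alt s t (2 * i + 1)))⁻¹).trace *
            (rmat φ (wprod P (alt s t (2 * i + 1)))).trace /
            ((Finset.univ.filter fun z : G => cellOf P z = wprod P (alt s t (2 * i + 1))).card : ℂ) =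
          ((T i / sin θ ^ 2 : ℝ) : ℂ) / (Nat.card P.B : ℂ) ∧
        (rmat φ (wprod P (alt t s (2 * i + 1)))⁻¹).trace *
            (rmat φ (wprod P (alt t s (2 * i + 1)))).trace /
            ((Finset.univ.filter fun z : G => cellOf P z = wprod P (alt t s (2 * i + 1))).card : ℂ) =
          ((((b - 1) ^ 2 / b * sin (((i : ℝ) + 1) * θ) ^ 2 + (a - 1) ^ 2 / a * sin ((i : ℝ) * θ) ^ 2 +
            2 * ((a - 1) * (b - 1) / r) * (sin (((i : ℝ) + 1) * θ) * sin ((i : ℝ) * θ))) /
              sin θ ^ 2 : ℝ) : ℂ) / (Nat.card P.B : ℂ) := by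
      intro i hi
      have h1 := (alt_reduced hS hi).1
      have h2 := (alt_reduced hS hi).2
      have hA := htrace _ (h1.trans (length_alt _ _ _).symm)
      have hB' := htrace _ (h2.trans (length_alt _ _ _).symm)
      rw [wprod_alt_inv_odd, wprod_alt_inv_odd, hA, hB', hcard _ (h1.trans (length_alt _ _ _).symm),
        hcard _ (h2.trans (length_alt _ _ _).symm)]
      simp only [prod_map_alt_odd, φs, φt, ← hadef, ← hbdef]
      have e1 := trace_pow_mul_A (θ := θ) hr hrpos.ne' i
      have e2 := trace_pow_mul_B (θ := θ) hr hrpos.ne' i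
      rw [← eq_div_iff hs] at e1 e2
      rw [e1, e2, mul_comm b a, ← hr]
      simp only [← Complex.ofReal_natCast, ← Complex.ofReal_mul, ← Complex.ofReal_div,
        Complex.ofReal_inj, T]
      have ha0 : a ≠ 0 := by linarith
      have hb0 : b ≠ 0 := by linarith
      have hB : (Nat.card P.B : ℝ) ≠ 0 := Nat.cast_ne_zero.2 Nat.card_pos.ne'
      have hr0 := hrpos.ne'
      rw [← pow_mul]
      constructor
      · field_simp
        linear_combination
          (r ^ (2 * i) * a * (b - 1) ^ 2 * sin ((i : ℝ) * θ) ^ 2 * (-1 : ℝ)) * hr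
      · field_simp
        linear_combination
          (r ^ (2 * i) * b * (a - 1) ^ 2 * sin ((i : ℝ) * θ) ^ 2 * (-1 : ℝ)) * hr
    cases bb
    · simp only [nword, F, Bool.false_eq_true, if_false]
      split_ifs with h
      · exact (heven k.val h).1
      · rw [(heven (m - k.val) (by omega)).2, Nat.cast_sub hk.le, sub_mul, (hsym _).2]
    · simp only [nword, F, if_true]
      split_ifs with h
      · exact (hodd k.val h).1
      · rw [(hodd (m - k.val - 1) (by omega)).2]
        congr 2
        simp only [T]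
        have e1 : (((m - k.val - 1 : ℕ) : ℝ) + 1) * θ = (m : ℝ) * θ - (k.val : ℝ) * θ := by
          rw [Nat.cast_sub (by omega), Nat.cast_sub hk.le]; push_cast; ring
        have e2 : ((m - k.val - 1 : ℕ) : ℝ) * θ = (m : ℝ) * θ - ((k.val : ℝ) + 1) * θ := by
          rw [Nat.cast_sub (by omega), Nat.cast_sub hk.le]; push_cast; ring
        rw [e1, e2, (hsym _).1, (hsym _).1]
        ring
  -- the total
  set K : ℝ := (a - 1) ^ 2 / a + (b - 1) ^ 2 / b + 2 * ((a - 1) * (b - 1) / r) * cos θ with hK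
  have hKnonneg : 0 ≤ K := by
    have e : K = (((a - 1) + a * (b - 1) / r * cos θ) ^ 2 + (a * (b - 1) / r * sin θ) ^ 2) / a := by
      have ha0 : a ≠ 0 := by linarith
      have hb0 : b ≠ 0 := by linarith
      have hv : (a * (b - 1) / r) ^ 2 = a * ((b - 1) ^ 2 / b) := by
        rw [div_pow, hr]; field_simp
      rw [eq_div_iff ha0, hK]
      linear_combination (div_mul_cancel₀ ((a - 1) ^ 2) ha0) - hv -
        (a * (b - 1) / r) ^ 2 * (sin_sq_add_cos_sq θ)
    rw [e]; positivity
  have hsum : ∑ p, F p = 2 * m + (m : ℝ) / 2 * K / sin θ ^ 2 := by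
    have h0 : ∀ φ', ∑ k : Fin m, cos (2 * (k.val : ℝ) * θ + φ') = 0 := fun φ' => by
      rw [Fin.sum_univ_eq_sum_range fun k => cos (2 * (k : ℝ) * θ + φ')]
      exact sum_cos_double hs hm0 φ'
    rw [Fintype.sum_prod_type]
    simp only [Fintype.sum_bool, F, if_true, Bool.false_eq_true, if_false, T]
    have e1 : ∀ u : ℝ, sin u ^ 2 = 1 / 2 - cos (2 * u) / 2 := fun u => by
      rw [cos_two_mul]; linear_combination sin_sq_add_cos_sq u
    have e2 : ∀ u : ℝ, cos u ^ 2 = 1 / 2 + cos (2 * u) / 2 := fun u => by rw [cos_two_mul]; ring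
    have e3 : ∀ k : Fin m, sin (((k.val : ℝ) + 1) * θ) * sin ((k.val : ℝ) * θ) =
        cos θ / 2 - cos (2 * (k.val : ℝ) * θ + θ) / 2 := fun k => by
      rw [show ((k.val : ℝ) + 1) * θ = (k.val : ℝ) * θ + θ by ring,
        show 2 * (k.val : ℝ) * θ + θ = (k.val : ℝ) * θ + ((k.val : ℝ) * θ + θ) by ring]
      rw [sin_add, cos_add, cos_add, sin_add]
      linear_combination ((cos θ) / 2) * sin_sq_add_cos_sq ((k.val : ℝ) * θ)
    have h1 : ∑ k : Fin m, sin (((k.val : ℝ) + 1) * θ) ^ 2 = m / 2 := by
      simp only [e1, Finset.sum_sub_distrib, ← Finset.sum_div, Finset.sum_const, Finset.card_univ,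
        Fintype.card_fin, nsmul_eq_mul, mul_add, add_mul, mul_one, ← mul_assoc]
      rw [show (∑ k : Fin m, cos (2 * (k.val : ℝ) * θ + 2 * θ)) = 0 from h0 _]
      ring
    have h2 : ∑ k : Fin m, sin ((k.val : ℝ) * θ) ^ 2 = m / 2 := by
      simp only [e1, Finset.sum_sub_distrib, ← Finset.sum_div, Finset.sum_const, Finset.card_univ,
        Fintype.card_fin, nsmul_eq_mul, ← mul_assoc]
      have := h0 0
      simp only [add_zero] at this
      rw [this]
      ring
    have h3 : ∑ k : Fin m, cos ((k.val : ℝ) * θ) ^ 2 = m / 2 := by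
      simp only [e2, Finset.sum_add_distrib, ← Finset.sum_div, Finset.sum_const, Finset.card_univ,
        Fintype.card_fin, nsmul_eq_mul, ← mul_assoc]
      have := h0 0
      simp only [add_zero] at this
      rw [this]
      ring
    have h4 : ∑ k : Fin m, sin (((k.val : ℝ) + 1) * θ) * sin ((k.val : ℝ) * θ) = m / 2 * cos θ := by
      simp only [e3, Finset.sum_sub_distrib, ← Finset.sum_div, Finset.sum_const, Finset.card_univ,
        Fintype.card_fin, nsmul_eq_mul, h0]
      ring
    simp only [Finset.sum_add_distrib, ← Finset.sum_div, ← Finset.mul_sum, h1, h2, h3, h4]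
    rw [hK]
    ring
  have hs2 : 0 < sin θ ^ 2 := by positivity
  have hpos : 0 < ∑ p, F p := by
    rw [hsum]
    have : (0 : ℝ) < 2 * m := by
      have : (2 : ℝ) ≤ m := by exact_mod_cast hm
      linarith
    have : 0 ≤ (m : ℝ) / 2 * K / sin θ ^ 2 := by positivity
    linarith
  have htot : (rho φ (mu φ)).trace = (Nat.card P.B : ℂ) * ((∑ p, F p : ℝ) : ℂ) := by
    rw [trace_rho_mu hwd, ← (nword_bijective hS).sum_comp, Finset.sum_congr rfl fun p _ => hterm p,
      Complex.ofReal_sum, ← Finset.sum_div]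
    have hB : (Nat.card P.B : ℂ) ≠ 0 := Nat.cast_ne_zero.2 Nat.card_pos.ne'
    field_simp
  obtain ⟨d, hd⟩ := exists_rank hquad hwd hscalar (by
    rw [htot]
    exact mul_ne_zero (Nat.cast_ne_zero.2 Nat.card_pos.ne') (by exact_mod_cast hpos.ne'))
  rw [htot] at hd
  have hd' : (d : ℝ) * ((Nat.card P.B : ℝ) * ∑ p, F p) = 4 * (Nat.card G : ℝ) := by exact_mod_cast hd
  have hd0 : (d : ℝ) ≠ 0 := by
    intro h
    rw [h, zero_mul] at hd'
    have : (0 : ℝ) < (Nat.card G : ℝ) := by exact_mod_cast Nat.card_pos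
    linarith
  refine ⟨2 / m * (4 * (Nat.card G : ℚ) / ((d : ℚ) * Nat.card P.B) - 2 * m), ?_⟩
  have hB : (Nat.card P.B : ℝ) ≠ 0 := Nat.cast_ne_zero.2 Nat.card_pos.ne'
  have hm' : (m : ℝ) ≠ 0 := by
    have : (2 : ℝ) ≤ m := by exact_mod_cast hm
    linarith
  push_cast
  rw [← hd', hsum]
  show K = _
  field_simp
  ring

/-- The order of the product of the two reflections. -/
theorem ord_mem : ord s t ∈ ({2, 3, 4, 6, 8} : Set ℕ) := by
  have hm2 : 2 ≤ ord s t := two_le_ord hne
  set m := ord s t with hmdef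
  set a : ℝ := (qOf P s : ℝ) with hadef
  set b : ℝ := (qOf P t : ℝ) with hbdef
  have ha : 2 ≤ a := by rw [hadef]; exact_mod_cast two_le_qOf s
  have hb : 2 ≤ b := by rw [hbdef]; exact_mod_cast two_le_qOf t
  set r : ℝ := √(a * b) with hrdef
  have hrpos : 0 < r := Real.sqrt_pos.2 (by positivity)
  have hsin : ∀ j : ℕ, 0 < j → 2 * j < m → 0 < sin (2 * π * j / m) := fun j h0 h1 => by
    have h0' : (0 : ℝ) < j := by exact_mod_cast h0
    have h1' : (2 : ℝ) * j < m := by exact_mod_cast h1
    refine sin_pos_of_pos_of_lt_pi (div_pos (by positivity) (by linarith)) ?_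
    rw [div_lt_iff₀ (by linarith)]
    nlinarith [pi_pos]
  have hniven : ∀ z : ℚ, 0 ≤ z → z ≤ 1 → (∃ x : ℚ, cos ((z : ℝ) * π) = x) →
      z ∈ ({0, 1 / 3, 1 / 2, 2 / 3, 1} : Set ℚ) := fun z h0 h1 hx =>
    niven_angle_div_pi_eq hx ⟨h0, h1⟩
  simp only [Set.mem_insert_iff, Set.mem_singleton_iff]
  rcases Nat.even_or_odd' m with ⟨n, hn | hn⟩
  · by_cases h2 : n = 1
    · omega
    -- for an even order the cosines are rational multiples of the root of the product
    have key : ∀ j : ℕ, 0 < j → j < n → ∃ z : ℚ, cos (2 * π * j / m) = z * r := by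
      intro j h0 h1
      have s1 := hsin j h0 (by omega)
      have s2 := hsin (n - j) (by omega) (by omega)
      obtain ⟨x, hx⟩ := exists_rat hne hS (j := j) s1.ne'
      obtain ⟨y, hy⟩ := exists_rat hne hS (j := n - j) s2.ne'
      have e : 2 * π * ((n - j : ℕ) : ℝ) / m = π - 2 * π * j / m := by
        rw [hn, Nat.cast_sub h1.le]
        push_cast
        have : (n : ℝ) ≠ 0 := by
          have : (1 : ℝ) ≤ n := by exact_mod_cast (show 1 ≤ n by omega)
          linarith
        field_simp
      rw [← hmdef] at hx hy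
      rw [e, cos_pi_sub, sin_pi_sub] at hy
      set c := cos (2 * π * j / m)
      set S2 := sin (2 * π * j / m) ^ 2
      set γ : ℝ := (a - 1) * (b - 1) / r with hγ
      set K0 : ℝ := (a - 1) ^ 2 / a + (b - 1) ^ 2 / b
      have hx' : K0 + 2 * γ * c = x * S2 := hx
      have hy' : K0 + 2 * γ * (-c) = y * S2 := hy
      have hK0 : 0 < K0 := by
        have : 0 < (a - 1) ^ 2 / a := div_pos (by nlinarith) (by linarith)
        have : 0 ≤ (b - 1) ^ 2 / b := div_nonneg (sq_nonneg _) (by linarith)
        linarith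
      have hxy : ((x : ℝ) + y) ≠ 0 := fun h => by
        have : 2 * K0 = 0 := by linear_combination hx' + hy' + S2 * h
        linarith
      refine ⟨((qOf P s : ℚ) - 1) ^ 2 / qOf P s * 0 + (((qOf P s : ℚ) - 1) ^ 2 / qOf P s +
        ((qOf P t : ℚ) - 1) ^ 2 / qOf P t) * (x - y) /
          (2 * (x + y) * (((qOf P s : ℚ) - 1) * ((qOf P t : ℚ) - 1))), ?_⟩
      push_cast
      rw [← hadef, ← hbdef, mul_zero, zero_add]
      have h3 : 2 * γ * c * ((x : ℝ) + y) = K0 * ((x : ℝ) - y) := by
        linear_combination (y : ℝ) * hx' - (x : ℝ) * hy'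
      have hab : (a - 1) * (b - 1) ≠ 0 := mul_ne_zero (by linarith) (by linarith)
      have hr0 := hrpos.ne'
      change c = K0 * ((x : ℝ) - y) / (2 * ((x : ℝ) + y) * ((a - 1) * (b - 1))) * r
      rw [← h3, hγ]
      field_simp
      rw [mul_assoc c, mul_div_assoc, div_self hab, mul_one]
    obtain ⟨z, hz⟩ := key 1 one_pos (by omega)
    have hm0 : (m : ℝ) ≠ 0 := Nat.cast_ne_zero.2 (by omega)
    have hsq : ∃ x : ℚ, cos (((4 / m : ℚ) : ℝ) * π) = x := by
      refine ⟨2 * z ^ 2 * ((qOf P s : ℚ) * qOf P t) - 1, ?_⟩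
      rw [show (((4 / m : ℚ) : ℝ)) * π = 2 * (2 * π * ((1 : ℕ) : ℝ) / m) by push_cast; ring,
        cos_two_mul, hz, mul_pow, hrdef, Real.sq_sqrt (by positivity)]
      push_cast [← hadef, ← hbdef]
      ring
    have hmQ : (4 : ℚ) ≤ m := by exact_mod_cast (show 4 ≤ m by omega)
    have h4 := hniven (4 / m) (by positivity) (by rw [div_le_one (by linarith)]; exact hmQ) hsq
    simp only [Set.mem_insert_iff, Set.mem_singleton_iff] at h4
    have hcase : m = 4 ∨ m = 6 ∨ m = 8 ∨ m = 12 := by
      rcases h4 with h | h | h | h | h <;> field_simp at h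
      · norm_num at h
      · right; right; right; exact_mod_cast (show (m : ℚ) = 12 by linarith)
      · right; right; left; exact_mod_cast (show (m : ℚ) = 8 by linarith)
      · right; left; exact_mod_cast (show (m : ℚ) = 6 by linarith)
      · left; exact_mod_cast (show (m : ℚ) = 4 by linarith)
    rcases hcase with h | h | h | h
    · omega
    · omega
    · omega
    exfalso
    obtain ⟨w, hw⟩ := key 2 two_pos (by omega)
    rw [h] at hw hz
    rw [show (2 : ℝ) * π * ((2 : ℕ) : ℝ) / ((12 : ℕ) : ℝ) = π / 3 by push_cast; ring,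
      cos_pi_div_three] at hw
    have h6 := hniven (1 / 6) (by norm_num) (by norm_num) ⟨z / (2 * w), by
      rw [show (((1 / 6 : ℚ) : ℝ)) * π = 2 * π * ((1 : ℕ) : ℝ) / ((12 : ℕ) : ℝ) by push_cast; ring,
        hz]
      push_cast
      have hw0 : (w : ℝ) ≠ 0 := fun e => by rw [e, zero_mul] at hw; norm_num at hw
      field_simp
      linear_combination (-2 * (z : ℝ)) * hw⟩
    norm_num at h6
  · -- for an odd order the cosine is rational
    have s1 := hsin 1 one_pos (by omega)
    obtain ⟨x, hx⟩ := exists_rat hne hS (j := 1) s1.ne'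
    rw [← hmdef] at hx
    have hq : qOf P t = qOf P s := (qOf_eq_of_odd hne hS ⟨n, by omega⟩).symm
    rw [hq, Real.sqrt_mul_self (Nat.cast_nonneg _)] at hx
    rw [sin_sq] at hx
    set c := cos (2 * π * ((1 : ℕ) : ℝ) / m) with hc
    set α : ℝ := ((qOf P s : ℝ) - 1) ^ 2 / qOf P s with hα
    have hα0 : 0 < α := div_pos (by rw [← hadef]; nlinarith) (by rw [← hadef]; linarith)
    have hc1 : 1 + c ≠ 0 := by
      intro h
      have hs := sin_sq_add_cos_sq (2 * π * ((1 : ℕ) : ℝ) / m)
      rw [← hc, show c = -1 by linarith] at hs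
      nlinarith
    have h2 : 2 * α = x * (1 - c) := by
      refine mul_left_cancel₀ hc1 ?_
      have : α + α + 2 * α * c = x * (1 - c ^ 2) := by
        rw [← hx, hα]; ring
      linear_combination this
    have hx0 : (x : ℝ) ≠ 0 := fun h => by rw [h, zero_mul] at h2; linarith
    have hrat : ∃ y : ℚ, cos (((2 / m : ℚ) : ℝ) * π) = y := by
      refine ⟨1 - 2 * (((qOf P s : ℚ) - 1) ^ 2 / qOf P s) / x, ?_⟩
      rw [show (((2 / m : ℚ) : ℝ)) * π = 2 * π * ((1 : ℕ) : ℝ) / m by push_cast; ring, ← hc]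
      push_cast
      rw [← hα]
      field_simp
      linear_combination h2
    have hmQ : (3 : ℚ) ≤ m := by exact_mod_cast (show 3 ≤ m by omega)
    have h4 := hniven (2 / m) (by positivity) (by rw [div_le_one (by linarith)]; linarith) hrat
    simp only [Set.mem_insert_iff, Set.mem_singleton_iff] at h4
    rcases h4 with h | h | h | h | h <;> field_simp at h
    · norm_num at h
    · have : m = 6 := by exact_mod_cast (show (m : ℚ) = 6 by linarith)
      omega
    · have : m = 4 := by exact_mod_cast (show (m : ℚ) = 4 by linarith)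
      omega
    · have : m = 3 := by exact_mod_cast (show (m : ℚ) = 3 by linarith)
      omega
    · linarith

end RankTwo

end CfsgLib.Hecke
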