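import Cfsg.Agent.Hecke.Center
import Cfsg.Agent.StCh.Character
import Cfsg.Agent.Blocks.CharExtra
import Cfsg.Agent.Char.Constituents
import Cfsg.Agent.Char.Induction
import Cfsg.Prelude.Def_ParabolicCharacters

/-!
# Constituents of the permutation character on the chambers

With all simple cells of the same size `q`, the bi-invariant functions form the Hecke algebra of
the Weyl group at `q`; its centre is spanned by the averages of the irreducible characters, and
those not vanishing on average are independent.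
-/

set_option autoImplicit false
set_option linter.style.haveILetI false
set_option linter.unusedSectionVars false

namespace CfsgLib.Hecke

open Cfsg CfsgLib.BN CfsgLib.StCh
open scoped Classical ComplexConjugate

attribute [local instance] torus_normal

variable {G : Type*} [Group G] [Fintype G] {P : Cfsg.BNPair G}

/-- Convolution. -/
noncomputable def conv (f g : G → ℂ) (x : G) : ℂ := ∑ y, f y * g (y⁻¹ * x)

theorem conv_assoc (f g h : G → ℂ) : conv (conv f g) h = conv f (conv g h) := by
  funext x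
  simp only [conv, Finset.sum_mul, Finset.mul_sum]
  rw [Finset.sum_comm]
  refine Finset.sum_congr rfl fun z _ => ?_
  refine Fintype.sum_equiv (Equiv.mulLeft z⁻¹) _ _ fun y => ?_
  simp only [Equiv.coe_mulLeft]
  rw [show (z⁻¹ * y)⁻¹ * (z⁻¹ * x) = y⁻¹ * x by group, mul_assoc]

theorem sum_conv (f g : G → ℂ) : ∑ x, conv f g x = (∑ x, f x) * ∑ x, g x := by
  simp only [conv]
  rw [Finset.sum_comm, Finset.sum_mul]
  refine Finset.sum_congr rfl fun y _ => ?_
  rw [← Finset.mul_sum]
  exact congrArg _ (Equiv.sum_comp (Equiv.mulLeft y⁻¹) g)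

theorem conv_smul_right (c : ℂ) (f g : G → ℂ) : conv f (c • g) = c • conv f g := by
  funext x; simp [conv, Finset.mul_sum, mul_left_comm]

theorem conv_smul_left (c : ℂ) (f g : G → ℂ) : conv (c • f) g = c • conv f g := by
  funext x; simp [conv, Finset.mul_sum, mul_assoc]

theorem conv_sum_left {ι : Type*} (s : Finset ι) (f : ι → G → ℂ) (g : G → ℂ) :
    conv (∑ i ∈ s, f i) g = ∑ i ∈ s, conv (f i) g := by
  funext x
  simp only [conv, Finset.sum_apply, Finset.sum_mul]
  exact Finset.sum_comm

theorem conv_comm {c : G → ℂ} (hc : Cfsg.IsClassFunction G c) (f : G → ℂ) :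
    conv f c = conv c f := by
  funext x
  refine Fintype.sum_equiv ((Equiv.inv G).trans (Equiv.mulLeft x)) _ _ fun y => ?_
  simp only [Equiv.trans_apply, Equiv.inv_apply, Equiv.coe_mulLeft]
  have h := hc (y⁻¹ * x) y
  rw [mul_inv_cancel_left] at h
  rw [h, show (x * y⁻¹)⁻¹ * x = y by group, mul_comm]

variable (P) in
/-- A function on the Weyl group as a function on the group. -/
noncomputable def lift (f : Weyl P → ℂ) : G → ℂ := fun g => f (cellOf P g)

theorem lift_smul (c : ℂ) (f : Weyl P → ℂ) : lift P (c • f) = c • lift P f := rfl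

theorem lift_add (f f' : Weyl P → ℂ) : lift P (f + f') = lift P f + lift P f' := rfl

theorem cellOf_surjective : Function.Surjective (cellOf P) := fun w => by
  obtain ⟨g, hg⟩ := cw_nonempty P w
  exact ⟨g, cellOf_eq hg⟩

theorem lift_injective : Function.Injective (lift P) := fun f f' h => funext fun w => by
  obtain ⟨g, rfl⟩ := cellOf_surjective w
  exact congrFun h g

/-- A point in each cell. -/
noncomputable def rep (w : Weyl P) : G := (cellOf_surjective (P := P) w).choose

theorem cellOf_rep (w : Weyl P) : cellOf P (rep w) = w := (cellOf_surjective (P := P) w).choose_spec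

theorem exists_of_cellOf_eq {g h : G} (e : cellOf P g = cellOf P h) :
    ∃ b ∈ P.B, ∃ c ∈ P.B, g = b * h * c := by
  obtain ⟨n, hn⟩ := QuotientGroup.mk_surjective (cellOf P h)
  have h1 := mem_cellOf (P := P) g
  have h2 := mem_cellOf (P := P) h
  rw [e, ← hn, cw_mk] at h1
  rw [← hn, cw_mk] at h2
  rw [← cosetOf_eq_of_mem P h2] at h1
  exact (mem_cosetOf P).1 h1

theorem cellOf_refl_mul {y z : G} {s : P.S} (hy : cellOf P y = BN.refl P s) :
    cellOf P (y * z) = BN.refl P s * cellOf P z ∨ cellOf P (y * z) = cellOf P z := by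
  have hy' : y ∈ cw P (BN.refl P s) := hy ▸ mem_cellOf y
  rcases mul_cw_refl P hy' (mem_cellOf z) with h | h
  exacts [Or.inl (cellOf_eq h), Or.inr (cellOf_eq h)]

theorem cellOf_refl_mul_asc {y z : G} {s : P.S} (hy : cellOf P y = BN.refl P s)
    (h : len P (cellOf P z) < len P (BN.refl P s * cellOf P z)) :
    cellOf P (y * z) = BN.refl P s * cellOf P z := by
  have hy' : y ∈ cw P (BN.refl P s) := hy ▸ mem_cellOf y
  exact cellOf_eq (mul_of_len_ge P s _ _ le_rfl h.le _ hy' _ (mem_cellOf z))

theorem sum_lift_single (w : Weyl P) (F : G → ℂ) :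
    ∑ y, lift P (single ℂ w) y * F y = ∑ y ∈ Finset.univ.filter (cellOf P · = w), F y := by
  rw [Finset.sum_filter]
  refine Finset.sum_congr rfl fun y _ => ?_
  by_cases h : cellOf P y = w
  · simp [lift, single, h]
  · simp [lift, single, h]

theorem card_filter_borel : (Finset.univ.filter fun y : G => cellOf P y = 1).card = Nat.card P.B := by
  rw [Nat.card_eq_fintype_card, ← Fintype.card_subtype]
  exact Fintype.card_congr (Equiv.subtypeEquivRight fun y => cellOf_eq_one)

theorem conv_lift_one (f : Weyl P → ℂ) :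
    conv (lift P (single ℂ (1 : Weyl P))) (lift P f) = (Nat.card P.B : ℂ) • lift P f := by
  funext g
  rw [conv, sum_lift_single, Finset.sum_congr rfl (g := fun _ => lift P f g) fun y hy => ?_,
    Finset.sum_const, card_filter_borel, nsmul_eq_mul]
  · rfl
  · have hy' := cellOf_eq_one.1 (Finset.mem_filter.1 hy).2
    show f _ = f _
    rw [cellOf_mul_left g (inv_mem hy')]

variable {q : ℕ}

theorem card_filter_refl (s : P.S)
    (hs : Nat.card {x : G ⧸ P.B // cell P x = BN.refl P s} = q) :
    (Finset.univ.filter fun y : G => cellOf P y = BN.refl P s).card = Nat.card P.B * q := by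
  rw [← Fintype.card_subtype, ← Nat.card_eq_fintype_card, ← hs, ← Nat.card_prod]
  refine Nat.card_congr ((Equiv.subtypeEquivRight fun y => ?_).trans
    (QuotientGroup.preimageMkEquivSubgroupProdSet P.B {x | cell P x = BN.refl P s}))
  simp [cell_mk]

/-- **Convolution with a simple cell.** -/
theorem conv_lift_refl (s : P.S) (hs : Nat.card {x : G ⧸ P.B // cell P x = BN.refl P s} = q)
    (f : Weyl P → ℂ) :
    conv (lift P (single ℂ (BN.refl P s))) (lift P f) =
      (Nat.card P.B : ℂ) • lift P (lop P (q : ℂ) s f) := by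
  funext g
  rw [conv, sum_lift_single]
  set x := cellOf P g with hx
  set S := Finset.univ.filter fun y : G => cellOf P y = BN.refl P s with hS
  have hcard : S.card = Nat.card P.B * q := card_filter_refl s hs
  have hinv : ∀ y ∈ S, cellOf P y⁻¹ = BN.refl P s := fun y hy => by
    rw [cellOf_inv, (Finset.mem_filter.1 hy).2, refl_inv]
  show _ = (Nat.card P.B : ℂ) * lop P (q : ℂ) s f x
  rw [lop_apply]
  split_ifs with h
  · set x' := BN.refl P s * x with hx'
    have hsx : BN.refl P s * x' = x := by rw [hx', ← mul_assoc, refl_sq, one_mul]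
    have hne : x' ≠ x := fun e => by rw [e] at h; exact lt_irrefl _ h
    have hy1 : cellOf P (rep (P := P) (BN.refl P s)) = BN.refl P s := cellOf_rep _
    have h1 := cellOf_refl_mul_asc (z := rep (P := P) x') hy1 (by rw [cellOf_rep, hsx]; exact h)
    rw [cellOf_rep, hsx] at h1
    obtain ⟨b, hb, c, hc, hg⟩ := exists_of_cellOf_eq (h1.trans hx).symm
    set y0 := b * rep (P := P) (BN.refl P s) with hy0
    set z := rep (P := P) x' * c with hz
    have hy0' : cellOf P y0 = BN.refl P s := by rw [hy0, cellOf_mul_left _ hb, hy1]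
    have hz' : cellOf P z = x' := by rw [hz, cellOf_mul_right _ hc, cellOf_rep]
    have hgyz : g = y0 * z := by rw [hg, hy0, hz]; group
    set T := S.filter fun y => cellOf P (y⁻¹ * g) = x' with hT
    have hTeq : ∀ y, y ∈ T ↔ y0⁻¹ * y ∈ P.B := by
      intro y
      constructor
      · intro hy
        obtain ⟨hyS, hyx⟩ := Finset.mem_filter.1 hy
        rw [← cellOf_eq_one]
        have h2 := cellOf_refl_mul (z := y) (show cellOf P y0⁻¹ = BN.refl P s by
          rw [cellOf_inv, hy0', refl_inv])
        rw [(Finset.mem_filter.1 hyS).2, refl_sq] at h2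
        refine h2.resolve_right fun e => hne ?_
        have e' : cellOf P (y0⁻¹ * y)⁻¹ = BN.refl P s := by rw [cellOf_inv, e, refl_inv]
        have h3 := cellOf_refl_mul_asc (z := z) e' (by rw [hz', hsx]; exact h)
        rw [hz', hsx, show (y0⁻¹ * y)⁻¹ * z = y⁻¹ * g by rw [hgyz]; group, hyx] at h3
        exact h3
      · intro hy
        refine Finset.mem_filter.2 ⟨Finset.mem_filter.2 ⟨Finset.mem_univ _, ?_⟩, ?_⟩
        · rw [show y = y0 * (y0⁻¹ * y) by group, cellOf_mul_right _ hy, hy0']
        · rw [show y⁻¹ * g = (y0⁻¹ * y)⁻¹ * z by rw [hgyz]; group,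
            cellOf_mul_left _ (inv_mem hy), hz']
    have hTcard : T.card = Nat.card P.B := by
      rw [Nat.card_eq_fintype_card, ← Fintype.card_coe]
      exact Fintype.card_congr ((Equiv.mulLeft y0⁻¹).subtypeEquiv fun y => hTeq y)
    have eT : ∑ y ∈ T, lift P f (y⁻¹ * g) = (T.card : ℂ) * f x' := by
      rw [Finset.sum_congr rfl (g := fun _ => f x') fun y hy => ?_, Finset.sum_const, nsmul_eq_mul]
      exact congrArg f (Finset.mem_filter.1 hy).2
    have eR : ∑ y ∈ S.filter (fun y => ¬ cellOf P (y⁻¹ * g) = x'), lift P f (y⁻¹ * g) =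
        ((S.filter fun y => ¬ cellOf P (y⁻¹ * g) = x').card : ℂ) * f x := by
      rw [Finset.sum_congr rfl (g := fun _ => f x) fun y hy => ?_, Finset.sum_const, nsmul_eq_mul]
      obtain ⟨hyS, hyx⟩ := Finset.mem_filter.1 hy
      exact congrArg f ((cellOf_refl_mul (z := g) (hinv y hyS)).resolve_left hyx)
    rw [← Finset.sum_filter_add_sum_filter_not S (fun y => cellOf P (y⁻¹ * g) = x'), eR, ← hT, eT,
      hTcard]
    · have hrest : ((S.filter fun y => ¬ cellOf P (y⁻¹ * g) = x').card : ℂ) =
          (Nat.card P.B : ℂ) * ((q : ℂ) - 1) := by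
        have := Finset.card_filter_add_card_filter_not (s := S) (fun y => cellOf P (y⁻¹ * g) = x')
        rw [← hT, hTcard, hcard] at this
        have h4 := congrArg (Nat.cast : ℕ → ℂ) this
        push_cast at h4
        linear_combination h4
      rw [hrest]; ring
  · have hlt : len P x < len P (BN.refl P s * x) := by
      rcases len_refl_mul_cases P s x with e | e <;> omega
    rw [Finset.sum_congr rfl (g := fun _ => f (BN.refl P s * x)) fun y hy => ?_, Finset.sum_const,
      hcard, nsmul_eq_mul]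
    · push_cast; ring
    · exact congrArg f (cellOf_refl_mul_asc (z := g) (hinv y hy) hlt)

variable [Fintype (Weyl P)]
variable (hq : ∀ s : P.S, Nat.card {x : G ⧸ P.B // cell P x = BN.refl P s} = q)
include hq

/-- **Convolution of bi-invariant functions is the product.** -/
theorem conv_lift (f f' : Weyl P → ℂ) :
    conv (lift P f) (lift P f') = (Nat.card P.B : ℂ) • lift P (hmul (q : ℂ) f f') := by
  have key : ∀ n, ∀ w : Weyl P, len P w = n → ∀ h : Weyl P → ℂ,
      conv (lift P (single ℂ w)) (lift P h) =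
        (Nat.card P.B : ℂ) • lift P (hmul (q : ℂ) (single ℂ w) h) := by
    intro n
    induction n with
    | zero => intro w hw h; rw [eq_one_of_len P hw, one_hmul, conv_lift_one]
    | succ n ih =>
      intro w hw h
      obtain ⟨L, hL, hl⟩ := exists_reduced P w
      rcases L with - | ⟨s, L⟩
      · rw [List.length_nil] at hl; omega
      rw [wprod_cons] at hL
      rw [List.length_cons] at hl
      have h1 := len_le P L
      have h2 := len_refl_mul_cases P s (wprod P L)
      rw [hL] at h2
      have hn : len P (wprod P L) = n := by omega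
      have e : single ℂ w = lop P (q : ℂ) s (single ℂ (wprod P L)) := by
        rw [lop_single_asc (by rw [hL]; omega), hL]
      have e2 : hmul (q : ℂ) (single ℂ w) h =
          lop P (q : ℂ) s (hmul (q : ℂ) (single ℂ (wprod P L)) h) := by
        rw [e, ← top_single_refl, ← hmul, hmul_assoc]
        rfl
      have hB : (Nat.card P.B : ℂ) ≠ 0 := Nat.cast_ne_zero.2 Nat.card_pos.ne'
      have e3 : lift P (single ℂ w) = (Nat.card P.B : ℂ)⁻¹ •
          conv (lift P (single ℂ (BN.refl P s))) (lift P (single ℂ (wprod P L))) := by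
        rw [conv_lift_refl s (hq s), ← e, inv_smul_smul₀ hB]
      rw [e3, conv_smul_left, conv_assoc, ih _ hn, conv_smul_right, inv_smul_smul₀ hB,
        conv_lift_refl s (hq s), e2]
  have hf : lift P f = ∑ w, f w • lift P (single ℂ w) := by
    conv_lhs => rw [← sum_single f]
    funext g
    simp [lift, Finset.sum_apply]
  rw [hf, conv_sum_left]
  funext g
  simp only [Finset.sum_apply, conv_smul_left, key _ _ rfl, Pi.smul_apply, smul_eq_mul, lift]
  conv_rhs => rw [← sum_single f]
  simp only [hmul, map_sum, map_smul, LinearMap.sum_apply, LinearMap.smul_apply, Finset.sum_apply,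
    Pi.smul_apply, smul_eq_mul, Finset.mul_sum]
  exact Finset.sum_congr rfl fun w _ => by ring

/-- The size of a cell. -/
theorem card_filter_cell (w : Weyl P) :
    ((Finset.univ.filter fun y : G => cellOf P y = w).card : ℂ) =
      (Nat.card P.B : ℂ) * (q : ℂ) ^ len P w := by
  have hsum : ∀ v : Weyl P, ((Finset.univ.filter fun y : G => cellOf P y = v).card : ℂ) =
      ∑ y, lift P (single ℂ v) y := fun v => by
    have := (sum_lift_single (P := P) v fun _ => 1).symm
    simpa using this
  induction hn : len P w generalizing w with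
  | zero => rw [eq_one_of_len P hn, card_filter_borel, pow_zero, mul_one]
  | succ n ih =>
    obtain ⟨L, hL, hl⟩ := exists_reduced P w
    rcases L with - | ⟨s, L⟩
    · rw [List.length_nil] at hl; omega
    rw [wprod_cons] at hL
    rw [List.length_cons] at hl
    have h1 := len_le P L
    have h2 := len_refl_mul_cases P s (wprod P L)
    rw [hL] at h2
    have h3 := congrArg (fun F : G → ℂ => ∑ y, F y) (conv_lift_refl s (hq s) (single ℂ (wprod P L)))
    rw [lop_single_asc (by rw [hL]; omega), hL] at h3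
    simp only [sum_conv, Pi.smul_apply, smul_eq_mul] at h3
    rw [← Finset.mul_sum, ← hsum, ← hsum, ← hsum, card_filter_refl s (hq s), ih (wprod P L) (by omega)] at h3
    push_cast at h3
    have hB : (Nat.card P.B : ℂ) ≠ 0 := Nat.cast_ne_zero.2 Nat.card_pos.ne'
    refine mul_left_cancel₀ hB ?_
    rw [← h3]
    ring

/-- Averaging a right invariant function over a cell. -/
theorem sum_cell_eq (F : G → ℂ) (hF : ∀ u : G, ∀ c ∈ P.B, F (u * c) = F u) (x : G) :
    ∑ y ∈ Finset.univ.filter (cellOf P · = cellOf P x), F y =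
      (q : ℂ) ^ len P (cellOf P x) * ∑ b : P.B, F ((b : G) * x) := by
  set S := Finset.univ.filter fun y : G => cellOf P y = cellOf P x
  let m : P.B × P.B → G := fun p => (p.1 : G) * x * p.2
  set k := (Finset.univ.filter fun p => m p = x).card
  have hk : ∀ y ∈ S, (Finset.univ.filter fun p => m p = y).card = k := by
    intro y hy
    obtain ⟨b, hb, c, hc, rfl⟩ := exists_of_cellOf_eq (Finset.mem_filter.1 hy).2
    refine Finset.card_bij' (fun p _ => ((⟨b, hb⟩ : P.B)⁻¹ * p.1, p.2 * (⟨c, hc⟩ : P.B)⁻¹))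
      (fun p _ => ((⟨b, hb⟩ : P.B) * p.1, p.2 * (⟨c, hc⟩ : P.B))) ?_ ?_ ?_ ?_
    · intro p hp
      refine Finset.mem_filter.2 ⟨Finset.mem_univ _, ?_⟩
      have hp' : (p.1 : G) * x * p.2 = b * x * c := (Finset.mem_filter.1 hp).2
      show b⁻¹ * (p.1 : G) * x * ((p.2 : G) * c⁻¹) = x
      calc b⁻¹ * (p.1 : G) * x * ((p.2 : G) * c⁻¹) = b⁻¹ * ((p.1 : G) * x * p.2) * c⁻¹ := by group
        _ = x := by rw [hp']; group
    · intro p hp
      refine Finset.mem_filter.2 ⟨Finset.mem_univ _, ?_⟩
      have hp' : (p.1 : G) * x * p.2 = x := (Finset.mem_filter.1 hp).2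
      show b * (p.1 : G) * x * ((p.2 : G) * c) = b * x * c
      calc b * (p.1 : G) * x * ((p.2 : G) * c) = b * ((p.1 : G) * x * p.2) * c := by group
        _ = b * x * c := by rw [hp']
    · intro p _; simp
    · intro p _; simp
  have hmem : ∀ p, m p ∈ S := fun p => Finset.mem_filter.2 ⟨Finset.mem_univ _, by
    show cellOf P ((p.1 : G) * x * p.2) = _
    rw [cellOf_mul_right _ p.2.2, cellOf_mul_left _ p.1.2]⟩
  have hsum : ∀ H : G → ℂ, ∑ p, H (m p) = (k : ℂ) * ∑ y ∈ S, H y := fun H => by
    rw [← Finset.sum_fiberwise_of_maps_to (g := m) (t := S) fun p _ => hmem p, Finset.mul_sum]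
    refine Finset.sum_congr rfl fun y hy => ?_
    rw [Finset.sum_congr rfl (g := fun _ => H y) fun p hp => by rw [(Finset.mem_filter.1 hp).2],
      Finset.sum_const, hk y hy, nsmul_eq_mul]
  have h1 := hsum fun _ => 1
  rw [Finset.sum_const, Finset.sum_const, Finset.card_univ, Fintype.card_prod, nsmul_one, nsmul_one,
    card_filter_cell hq, ← Nat.card_eq_fintype_card] at h1
  push_cast at h1
  have h2 := hsum F
  have h3 : ∑ p, F (m p) = (Nat.card P.B : ℂ) * ∑ b : P.B, F ((b : G) * x) := by
    rw [Fintype.sum_prod_type, Finset.mul_sum]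
    refine Finset.sum_congr rfl fun b _ => ?_
    rw [Finset.sum_congr rfl (g := fun _ => F ((b : G) * x)) fun c _ => hF _ _ c.2, Finset.sum_const,
      Finset.card_univ, nsmul_eq_mul, Nat.card_eq_fintype_card]
  rw [h3] at h2
  have hB : (Nat.card P.B : ℂ) ≠ 0 := Nat.cast_ne_zero.2 Nat.card_pos.ne'
  refine mul_left_cancel₀ (mul_ne_zero hB hB) ?_
  calc (Nat.card P.B : ℂ) * Nat.card P.B * ∑ y ∈ S, F y
      = (k : ℂ) * (Nat.card P.B * (q : ℂ) ^ len P (cellOf P x)) * ∑ y ∈ S, F y := by rw [h1]
    _ = (Nat.card P.B : ℂ) * (q : ℂ) ^ len P (cellOf P x) * ((k : ℂ) * ∑ y ∈ S, F y) := by ring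
    _ = _ := by rw [← h2]; ring

omit hq

variable (P) in
/-- Averaging over the Borel subgroup. -/
noncomputable def avg (c : G → ℂ) (g : G) : ℂ := ∑ b : P.B, c (g * b)

variable (P) in
/-- The same, as a function on the Weyl group. -/
noncomputable def avgW (c : G → ℂ) : Weyl P → ℂ := fun w => avg P c (rep w)

theorem lift_avgW {c : G → ℂ} (hc : Cfsg.IsClassFunction G c) : lift P (avgW P c) = avg P c := by
  funext g
  obtain ⟨b, hb, d, hd, e⟩ := exists_of_cellOf_eq (P := P) (g := rep (P := P) (cellOf P g)) (h := g)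
    (cellOf_rep _)
  show avg P c (rep (P := P) (cellOf P g)) = _
  rw [e]
  refine Fintype.sum_equiv ((Equiv.mulLeft (⟨d, hd⟩ : P.B)).trans
    (Equiv.mulRight (⟨b, hb⟩ : P.B))) _ _ fun x => ?_
  simp only [Equiv.trans_apply, Equiv.coe_mulLeft, Equiv.coe_mulRight, Subgroup.coe_mul]
  have := hc (g * ((d * (x : G)) * b)) b
  rw [← this]
  congr 1
  group

theorem avg_comm {c : G → ℂ} (hc : Cfsg.IsClassFunction G c) (f : Weyl P → ℂ) :
    conv (lift P f) (avg P c) = conv (avg P c) (lift P f) := by
  funext g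
  have hl : conv (avg P c) (lift P f) g = (Nat.card P.B : ℂ) * conv c (lift P f) g := by
    simp only [conv, avg, Finset.sum_mul]
    rw [Finset.sum_comm, Finset.sum_congr rfl (g := fun _ => ∑ y, c y * lift P f (y⁻¹ * g))
      fun b _ => ?_, Finset.sum_const, Finset.card_univ, nsmul_eq_mul, Nat.card_eq_fintype_card]
    refine Fintype.sum_equiv (Equiv.mulRight (b : G)) _ _ fun y => ?_
    simp only [Equiv.coe_mulRight]
    congr 1
    show f _ = f _
    rw [mul_inv_rev, mul_assoc, cellOf_mul_left _ (inv_mem b.2)]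
  have hr : conv (lift P f) (avg P c) g = ∑ b : P.B, conv c (lift P f) (g * b) := by
    simp only [conv, avg, Finset.mul_sum]
    rw [Finset.sum_comm]
    refine Finset.sum_congr rfl fun b _ => ?_
    have := congrFun (conv_comm hc (lift P f)) (g * b)
    simp only [conv] at this
    simp only [mul_assoc, ← this]
  rw [hl, hr, Finset.sum_congr rfl (g := fun _ => conv c (lift P f) g) fun b _ => ?_,
    Finset.sum_const, Finset.card_univ, nsmul_eq_mul, Nat.card_eq_fintype_card]
  simp only [conv]
  refine Finset.sum_congr rfl fun y _ => ?_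
  congr 1
  show f _ = f _
  rw [← mul_assoc, cellOf_mul_right _ b.2]

include hq

theorem avgW_isCentral {c : G → ℂ} (hc : Cfsg.IsClassFunction G c) :
    IsCentral (q : ℂ) (avgW P c) := fun f => by
  have h := avg_comm hc f
  rw [← lift_avgW hc, conv_lift hq, conv_lift hq] at h
  exact lift_injective (smul_right_injective _ (Nat.cast_ne_zero.2 Nat.card_pos.ne' :
    (Nat.card P.B : ℂ) ≠ 0) h)

/-- The trace is an average of a class function. -/
theorem cas_eq_avgW {N : ℕ} (hN : ∀ w : Weyl P, len P w ≤ N) (h : Weyl P → ℂ) :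
    ∃ c : G → ℂ, Cfsg.IsClassFunction G c ∧ cas (q : ℂ) N h = avgW P c := by
  set B : ℂ := (Nat.card P.B : ℂ)
  have hB : B ≠ 0 := Nat.cast_ne_zero.2 Nat.card_pos.ne'
  set φ := lift P h with hφ
  let c₀ : G → ℂ := fun u => ∑ x, φ (x⁻¹ * u * x)
  have hc₀ : Cfsg.IsClassFunction G c₀ := fun u y => by
    refine Fintype.sum_equiv (Equiv.mulLeft y⁻¹) _ _ fun x => ?_
    simp only [Equiv.coe_mulLeft]
    congr 1
    group
  refine ⟨((B * B)⁻¹ * (q : ℂ) ^ N) • c₀, fun u y => by simp [hc₀ u y], lift_injective ?_⟩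
  rw [lift_avgW fun u y => by simp [hc₀ u y]]
  funext g
  have hφB : ∀ u : G, ∀ b ∈ P.B, φ (u * b) = φ u := fun u b hb => by
    show h _ = h _
    rw [cellOf_mul_right _ hb]
  have hterm : ∀ w : Weyl P, B * B * hmul (q : ℂ) (single ℂ w) (hmul (q : ℂ) h (single ℂ w⁻¹))
      (cellOf P g) = conv (lift P (single ℂ w)) (conv φ (lift P (single ℂ w⁻¹))) g := fun w => by
    rw [hφ, conv_lift hq, conv_smul_right, conv_lift hq, smul_smul]
    rfl
  have hinner : ∀ (w : Weyl P) (y : G), conv φ (lift P (single ℂ w⁻¹)) (y⁻¹ * g) =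
      ∑ y' ∈ Finset.univ.filter (cellOf P · = w), φ (y⁻¹ * g * y') := fun w y => by
    rw [← sum_lift_single, conv]
    refine Fintype.sum_equiv (Equiv.mulLeft (y⁻¹ * g)⁻¹) _ _ fun z => ?_
    simp only [Equiv.coe_mulLeft]
    rw [mul_inv_cancel_left, mul_comm (φ z)]
    congr 1
    show single ℂ w⁻¹ _ = single ℂ w _
    have e : cellOf P ((y⁻¹ * g)⁻¹ * z) = (cellOf P (z⁻¹ * (y⁻¹ * g)))⁻¹ := by
      rw [← cellOf_inv]; congr 1; group
    rw [e]
    simp [single, Pi.single_apply, inv_eq_iff_eq_inv]
  refine mul_left_cancel₀ (mul_ne_zero hB hB) ?_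
  calc B * B * lift P (cas (q : ℂ) N h) g
      = ∑ w : Weyl P, (q : ℂ) ^ (N - len P w) *
          conv (lift P (single ℂ w)) (conv φ (lift P (single ℂ w⁻¹))) g := by
        simp only [lift, cas_apply, Finset.sum_apply, Pi.smul_apply, smul_eq_mul, Finset.mul_sum]
        refine Finset.sum_congr rfl fun w _ => ?_
        rw [← hterm]; ring
    _ = ∑ w : Weyl P, ∑ y ∈ Finset.univ.filter (cellOf P · = w),
          (q : ℂ) ^ N * ∑ b : P.B, φ (y⁻¹ * g * ((b : G) * y)) := by
        refine Finset.sum_congr rfl fun w _ => ?_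
        rw [conv, sum_lift_single, Finset.mul_sum]
        refine Finset.sum_congr rfl fun y hy => ?_
        obtain rfl := (Finset.mem_filter.1 hy).2
        rw [hinner, sum_cell_eq hq (fun u => φ (y⁻¹ * g * u)) (fun u b hb => by
          rw [← mul_assoc, hφB _ b hb]), ← mul_assoc, ← pow_add, Nat.sub_add_cancel (hN _)]
    _ = (q : ℂ) ^ N * ∑ b : P.B, c₀ (g * b) := by
        rw [Finset.sum_fiberwise, ← Finset.mul_sum, Finset.sum_comm]
        congr 1
        refine Finset.sum_congr rfl fun b _ => Finset.sum_congr rfl fun y _ => ?_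
        congr 1
        group
    _ = B * B * avg P (((B * B)⁻¹ * (q : ℂ) ^ N) • c₀) g := by
        simp only [avg, Pi.smul_apply, smul_eq_mul, ← Finset.mul_sum]
        field_simp

omit hq

/-- The sum of a character over the Borel subgroup. -/
noncomputable def borelSum (P : Cfsg.BNPair G) (χ : G → ℂ) : ℂ := ∑ b : P.B, χ b

theorem sum_avg_conj (χ ψ : IrrCharacter G) :
    (∑ g, avg P (χ : G → ℂ) g * conj ((ψ : G → ℂ) g)) * (χ : G → ℂ) 1 =
      if χ = ψ then (Nat.card G : ℂ) * borelSum P (χ : G → ℂ) else 0 := by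
  have ha : Cfsg.IsClassFunction G fun g => conj ((ψ : G → ℂ) g) := fun g h =>
    congrArg conj (Block.Chr.isClassFunction_irr ψ g h)
  have key : ∀ b : P.B, (∑ g, (χ : G → ℂ) (g * b) * conj ((ψ : G → ℂ) g)) * (χ : G → ℂ) 1 =
      (if χ = ψ then (Nat.card G : ℂ) else 0) * (χ : G → ℂ) b := by
    intro b
    have h := Block.Chr.class_mul χ ha (Pi.single (b : G) 1)
    simp only [Pi.single_apply, mul_ite, mul_one, mul_zero, ite_mul, zero_mul, one_mul,
      Finset.sum_ite_eq', Finset.mem_univ, if_true] at h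
    have hin := Block.Chr.classInner_irr χ ψ
    rw [CfsgLib.Char.classInner_def, inv_mul_eq_iff_eq_mul₀
      (Nat.cast_ne_zero.2 Nat.card_pos.ne'), mul_ite, mul_one, mul_zero] at hin
    rw [Finset.sum_congr rfl fun g _ => mul_comm (conj ((ψ : G → ℂ) g)) ((χ : G → ℂ) g), hin,
      Finset.sum_congr rfl fun g _ => mul_comm (conj ((ψ : G → ℂ) g)) ((χ : G → ℂ) (g * b))] at h
    exact h
  simp only [avg, Finset.sum_mul]
  rw [Finset.sum_comm, borelSum]
  rw [Finset.sum_congr rfl fun b _ => (Finset.sum_mul _ _ _).symm]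
  rw [Finset.sum_congr rfl fun b _ => key b, ← Finset.mul_sum]
  split_ifs <;> simp

theorem avg_eq_zero {χ : IrrCharacter G} (h : borelSum P (χ : G → ℂ) = 0) :
    avg P (χ : G → ℂ) = 0 := by
  have h0 : ∑ g, avg P (χ : G → ℂ) g * conj ((χ : G → ℂ) g) = 0 := by
    have := sum_avg_conj (P := P) χ χ
    rw [if_pos rfl, h, mul_zero] at this
    exact (mul_eq_zero.1 this).resolve_right (Block.Chr.irr_one_ne_zero χ)
  have h1 : ∑ g, avg P (χ : G → ℂ) g * conj (avg P (χ : G → ℂ) g) = 0 := by
    calc ∑ g, avg P (χ : G → ℂ) g * conj (avg P (χ : G → ℂ) g)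
        = ∑ b : P.B, ∑ g, avg P (χ : G → ℂ) g * conj ((χ : G → ℂ) (g * b)) := by
          rw [Finset.sum_comm]
          refine Finset.sum_congr rfl fun g _ => ?_
          conv_lhs => arg 2; rw [avg, map_sum]
          rw [Finset.mul_sum]
      _ = ∑ b : P.B, ∑ g, avg P (χ : G → ℂ) g * conj ((χ : G → ℂ) g) := by
          refine Finset.sum_congr rfl fun b _ => ?_
          refine Fintype.sum_equiv (Equiv.mulRight (b : G)) _ _ fun g => ?_
          simp only [Equiv.coe_mulRight]
          congr 1
          exact Fintype.sum_equiv (Equiv.mulLeft b⁻¹) _ _ fun d => by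
            simp [mul_assoc]
      _ = 0 := by simp [h0]
  simp only [Complex.mul_conj, ← Complex.ofReal_sum, Complex.ofReal_eq_zero] at h1
  funext g
  exact Complex.normSq_eq_zero.1
    ((Finset.sum_eq_zero_iff_of_nonneg fun g _ => Complex.normSq_nonneg _).1 h1 g
      (Finset.mem_univ _))

include hq

theorem finrank_center_eq (hq0 : 0 < q) :
    Module.finrank ℂ (LinearMap.ker (comm (P := P) (q : ℂ))) =
      Nat.card {χ : IrrCharacter G // borelSum P (χ : G → ℂ) ≠ 0} := by
  letI : Fintype (IrrCharacter G) := Block.Chr.irrFintype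
  let v : {χ : IrrCharacter G // borelSum P (χ : G → ℂ) ≠ 0} → (Weyl P → ℂ) :=
    fun χ => avgW P (χ.1 : G → ℂ)
  have hv : ∀ χ, lift P (v χ) = avg P (χ.1 : G → ℂ) := fun χ =>
    lift_avgW (Block.Chr.isClassFunction_irr χ.1)
  have hind : LinearIndependent ℂ v := by
    rw [Fintype.linearIndependent_iff]
    intro a ha ψ
    have h1 : ∀ g, ∑ χ, a χ * avg P (χ.1 : G → ℂ) g = 0 := fun g => by
      have := congrFun ha (cellOf P g)
      simp only [Finset.sum_apply, Pi.smul_apply, smul_eq_mul, Pi.zero_apply] at this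
      simp only [← hv]
      exact this
    have h2 : ∑ χ, a χ * ∑ g, avg P (χ.1 : G → ℂ) g * conj ((ψ.1 : G → ℂ) g) = 0 := by
      simp only [Finset.mul_sum, ← mul_assoc]
      rw [Finset.sum_comm]
      exact Finset.sum_eq_zero fun g _ => by rw [← Finset.sum_mul, h1, zero_mul]
    have hne : ∀ χ ≠ ψ, ∑ g, avg P (χ.1 : G → ℂ) g * conj ((ψ.1 : G → ℂ) g) = 0 := fun χ hχ => by
      have := sum_avg_conj (P := P) χ.1 ψ.1
      rw [if_neg fun e => hχ (Subtype.ext e)] at this
      exact (mul_eq_zero.1 this).resolve_right (Block.Chr.irr_one_ne_zero χ.1)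
    rw [Finset.sum_eq_single ψ (fun χ _ hχ => by rw [hne χ hχ, mul_zero])
      fun h => absurd (Finset.mem_univ _) h] at h2
    refine (mul_eq_zero.1 h2).resolve_right fun h => ?_
    have := sum_avg_conj (P := P) ψ.1 ψ.1
    rw [if_pos rfl, h, zero_mul] at this
    exact mul_ne_zero (Nat.cast_ne_zero.2 Nat.card_pos.ne') ψ.2 this.symm
  have hspan : Submodule.span ℂ (Set.range v) = LinearMap.ker (comm (P := P) (q : ℂ)) := by
    refine le_antisymm (Submodule.span_le.2 ?_) ?_
    · rintro _ ⟨χ, rfl⟩
      exact mem_ker_comm.2 (avgW_isCentral hq (Block.Chr.isClassFunction_irr χ.1))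
    · have hN : ∀ w : Weyl P, len P w ≤ Finset.univ.sup (len P) :=
        fun w => Finset.le_sup (Finset.mem_univ w)
      have hr := range_cas_eq (P := P) (t := (q : ℝ)) (by exact_mod_cast hq0) hN
      rw [Complex.ofReal_natCast] at hr
      rw [← hr]
      rintro _ ⟨h, rfl⟩
      obtain ⟨c, hc, e⟩ := cas_eq_avgW hq hN h
      rw [e]
      have hexp : avgW P c =
          ∑ χ : IrrCharacter G, classInner c (χ : G → ℂ) • avgW P (χ : G → ℂ) := by
        funext w
        simp only [avgW, avg, Finset.sum_apply, Pi.smul_apply, smul_eq_mul, Finset.mul_sum]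
        rw [Finset.sum_comm]
        exact Finset.sum_congr rfl fun b _ => Block.Chr.classFun_expand hc _
      rw [hexp]
      refine Submodule.sum_mem _ fun χ _ => ?_
      by_cases hχ : borelSum P (χ : G → ℂ) = 0
      · have : avgW P (χ : G → ℂ) = 0 := funext fun w => congrFun (avg_eq_zero hχ) _
        rw [this, smul_zero]
        exact Submodule.zero_mem _
      · exact Submodule.smul_mem _ _ (Submodule.subset_span ⟨⟨χ, hχ⟩, rfl⟩)
  rw [← hspan, finrank_span_eq_card hind, Nat.card_eq_fintype_card]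

/-- **The constituents of the permutation character correspond in number to the classes of the
Weyl group.** -/
theorem card_constituents (hq0 : 0 < q) :
    Nat.card {χ : IrrCharacter G // ∃ φ : G → ℂ, Cfsg.IsCharacter G φ ∧
      Cfsg.fixedPointCharacter P.B = (χ : G → ℂ) + φ} = Nat.card (ConjClasses (Weyl P)) := by
  rw [← finrank_center (P := P) (t := (q : ℝ)) (by exact_mod_cast hq0), Complex.ofReal_natCast,
    finrank_center_eq hq hq0]
  refine Nat.card_congr (Equiv.subtypeEquivRight fun χ => ?_)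
  have hB : (Nat.card P.B : ℂ) ≠ 0 := Nat.cast_ne_zero.2 Nat.card_pos.ne'
  have hπ : Cfsg.IsCharacter G (Cfsg.fixedPointCharacter P.B) := by
    rw [fixedPointCharacter_eq]
    exact CfsgLib.Char.IsCharacter.indFun
      (CfsgLib.Char.IsIrrCharacter.isCharacter (CfsgLib.Char.isIrrCharacter_one))
  have hinner : Cfsg.classInner (Cfsg.fixedPointCharacter P.B) (χ : G → ℂ) =
      (Nat.card P.B : ℂ)⁻¹ * conj (borelSum P (χ : G → ℂ)) := by
    rw [fixedPointCharacter_eq, CfsgLib.Char.classInner_indFun _ (Block.Chr.isClassFunction_irr χ),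
      CfsgLib.Char.classInner_def, borelSum, map_sum]
    simp
  have hiff : borelSum P (χ : G → ℂ) ≠ 0 ↔
      Cfsg.classInner (Cfsg.fixedPointCharacter P.B) (χ : G → ℂ) ≠ 0 := by
    rw [hinner]
    simp [hB]
  rw [hiff]
  constructor
  · rintro ⟨φ, hφ, e⟩
    obtain ⟨n, hn⟩ := CfsgLib.Char.IsCharacter.exists_classInner_eq_natCast hφ χ.2
    rw [e, CfsgLib.Char.classInner_add_left, Block.Chr.classInner_irr, if_pos rfl, hn]
    exact_mod_cast (show 1 + n ≠ 0 by omega)
  · exact fun h => ⟨_, CfsgLib.Char.IsCharacter.sub_irr hπ χ.2 h, (add_sub_cancel _ _).symm⟩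

end CfsgLib.Hecke
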